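import Mathlib.GroupTheory.Sylow
import Mathlib.GroupTheory.Nilpotent
import Mathlib.GroupTheory.Subgroup.Centralizer
import Mathlib.GroupTheory.QuotientGroup.Basic

/-!
Sylow subgroups of subgroups, written as in the definitions of conjugacy functors
(`T ≤ H`, `T` a `p`-group, `p` prime to the index of `T` in `H`), and conjugation of subgroups,
written `H.map (MulAut.conj g).toMonoidHom`.
-/

set_option autoImplicit false

namespace CfsgLib.Functor

open Subgroup

variable {G : Type*} [Group G]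

/-- Conjugate of a subgroup, in the spelling used by the statements. -/
scoped notation:75 g:76 " ⋆ " H:75 => Subgroup.map (MulEquiv.toMonoidHom (MulAut.conj g)) H

theorem mem_cj {g : G} {H : Subgroup G} {x : G} : x ∈ g ⋆ H ↔ g⁻¹ * x * g ∈ H := by
  constructor
  · rintro ⟨y, hy, rfl⟩
    simpa [mul_assoc] using hy
  · intro h
    exact ⟨_, h, by simp [mul_assoc]⟩

theorem conj_mem_cj {g x : G} {H : Subgroup G} (hx : x ∈ H) : g * x * g⁻¹ ∈ g ⋆ H :=
  mem_cj.2 (by simpa [mul_assoc] using hx)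

theorem cj_cj (g h : G) (H : Subgroup G) : g ⋆ (h ⋆ H) = (g * h) ⋆ H := by
  ext x; simp [mem_cj, mul_assoc]

theorem cj_one (H : Subgroup G) : (1 : G) ⋆ H = H := by
  ext x; simp [mem_cj]

theorem cj_inv_cj (g : G) (H : Subgroup G) : g⁻¹ ⋆ (g ⋆ H) = H := by
  rw [cj_cj, inv_mul_cancel, cj_one]

theorem cj_cj_inv (g : G) (H : Subgroup G) : g ⋆ (g⁻¹ ⋆ H) = H := by
  rw [cj_cj, mul_inv_cancel, cj_one]

theorem cj_mono (g : G) {H K : Subgroup G} (h : H ≤ K) : g ⋆ H ≤ g ⋆ K := map_mono h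

theorem cj_le_iff {g : G} {H K : Subgroup G} : g ⋆ H ≤ K ↔ ∀ x ∈ H, g * x * g⁻¹ ∈ K := by
  constructor
  · intro h x hx; exact h (conj_mem_cj hx)
  · rintro h _ ⟨x, hx, rfl⟩; simpa using h x hx

theorem cj_le_cj_iff {g : G} {H K : Subgroup G} : g ⋆ H ≤ g ⋆ K ↔ H ≤ K :=
  map_le_map_iff_of_injective (MulAut.conj g).injective

theorem cj_le_iff' {g : G} {H K : Subgroup G} : g ⋆ H ≤ K ↔ H ≤ g⁻¹ ⋆ K := by
  conv_lhs => rw [← cj_cj_inv g K]
  exact cj_le_cj_iff

theorem cj_inj {g : G} {H K : Subgroup G} (h : g ⋆ H = g ⋆ K) : H = K :=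
  map_injective (MulAut.conj g).injective h

theorem card_cj (g : G) (H : Subgroup G) : Nat.card ↥(g ⋆ H) = Nat.card H :=
  (Nat.card_congr (H.equivMapOfInjective _ (MulAut.conj g).injective).toEquiv).symm

theorem cj_eq_bot_iff {g : G} {H : Subgroup G} : g ⋆ H = ⊥ ↔ H = ⊥ :=
  map_eq_bot_iff_of_injective _ (MulAut.conj g).injective

theorem cj_inf (g : G) (H K : Subgroup G) : g ⋆ (H ⊓ K) = (g ⋆ H) ⊓ (g ⋆ K) :=
  map_inf _ _ _ (MulAut.conj g).injective

theorem cj_top (g : G) : g ⋆ (⊤ : Subgroup G) = ⊤ := by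
  ext x; simp [mem_cj]

theorem mem_normalizer_iff_cj {g : G} {H : Subgroup G} :
    g ∈ normalizer (H : Set G) ↔ g ⋆ H = H := by
  rw [mem_normalizer_iff, SetLike.ext_iff]
  constructor
  · intro h x
    rw [mem_cj, h (g⁻¹ * x * g)]
    simp [mul_assoc]
  · intro h x
    have := h (g * x * g⁻¹)
    rw [mem_cj] at this
    simpa [mul_assoc] using this

theorem cj_eq_self_of_mem {g : G} {H : Subgroup G} (hg : g ∈ H) : g ⋆ H = H :=
  mem_normalizer_iff_cj.1 (le_normalizer hg)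

theorem cj_normalizer (g : G) (H : Subgroup G) :
    g ⋆ normalizer (H : Set G) = normalizer ((g ⋆ H : Subgroup G) : Set G) := by
  ext x
  rw [mem_cj, mem_normalizer_iff_cj, mem_normalizer_iff_cj]
  constructor
  · intro h
    calc x ⋆ (g ⋆ H) = g ⋆ ((g⁻¹ * x * g) ⋆ H) := by rw [cj_cj, cj_cj]; group
      _ = g ⋆ H := by rw [h]
  · intro h
    apply cj_inj (g := g)
    calc g ⋆ ((g⁻¹ * x * g) ⋆ H) = x ⋆ (g ⋆ H) := by rw [cj_cj, cj_cj]; group
      _ = g ⋆ H := h

theorem cj_centralizer (g : G) (H : Subgroup G) :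
    g ⋆ centralizer (H : Set G) = centralizer ((g ⋆ H : Subgroup G) : Set G) := by
  ext x
  simp only [mem_cj, mem_centralizer_iff, SetLike.mem_coe]
  constructor
  · intro h y hy
    have := congrArg (fun z => g * z * g⁻¹) (h _ hy)
    simpa [mul_assoc] using this
  · intro h y hy
    have h' := h (g * y * g⁻¹) (by simpa [mul_assoc] using hy)
    have := congrArg (fun z => g⁻¹ * z * g) h'
    simpa [mul_assoc] using this

theorem cj_relIndex (g : G) (H K : Subgroup G) : (g ⋆ H).relIndex (g ⋆ K) = H.relIndex K :=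
  relIndex_map_map_of_injective H K (MulAut.conj g).injective

theorem cj_commutator (g : G) (H K : Subgroup G) : g ⋆ ⁅H, K⁆ = ⁅g ⋆ H, g ⋆ K⁆ :=
  map_commutator H K _

theorem isPGroup_cj {p : ℕ} (g : G) {H : Subgroup G} (h : IsPGroup p H) : IsPGroup p ↥(g ⋆ H) :=
  h.map _

/-- `T` is a Sylow `p`-subgroup of the subgroup `H`. -/
def IsSylowIn (p : ℕ) (T H : Subgroup G) : Prop :=
  T ≤ H ∧ IsPGroup p ↥T ∧ ¬ p ∣ T.relIndex H

theorem IsSylowIn.le {p : ℕ} {T H : Subgroup G} (h : IsSylowIn p T H) : T ≤ H := h.1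

theorem IsSylowIn.isPGroup {p : ℕ} {T H : Subgroup G} (h : IsSylowIn p T H) : IsPGroup p ↥T := h.2.1

theorem IsSylowIn.cj {p : ℕ} {T H : Subgroup G} (h : IsSylowIn p T H) (g : G) :
    IsSylowIn p (g ⋆ T) (g ⋆ H) :=
  ⟨cj_mono g h.1, isPGroup_cj g h.2.1, by rw [cj_relIndex]; exact h.2.2⟩

theorem IsSylowIn.cj_of_mem {p : ℕ} {T H : Subgroup G} (h : IsSylowIn p T H) {g : G}
    (hg : g ∈ normalizer (H : Set G)) : IsSylowIn p (g ⋆ T) H := by
  simpa only [mem_normalizer_iff_cj.1 hg] using h.cj g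

variable [Finite G] {p : ℕ} [hp : Fact p.Prime]

theorem isSylowIn_top (S : Sylow p G) : IsSylowIn p (S : Subgroup G) ⊤ :=
  ⟨le_top, S.2, by rw [relIndex_top_right]; exact S.not_dvd_index⟩

/-- A Sylow subgroup of `H` as a `Sylow p H`. -/
theorem IsSylowIn.exists_sylow {T H : Subgroup G} (h : IsSylowIn p T H) :
    ∃ P : Sylow p H, (P : Subgroup H).map H.subtype = T := by
  have hp' : IsPGroup p ↥(T.subgroupOf H) :=
    h.2.1.of_equiv (subgroupOfEquivOfLe h.1).symm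
  have hdvd : ¬ p ∣ (T.subgroupOf H).index := h.2.2
  exact ⟨hp'.toSylow hdvd, map_subgroupOf_eq_of_le h.1⟩

theorem isSylowIn_map_subtype {H : Subgroup G} (P : Sylow p H) :
    IsSylowIn p ((P : Subgroup H).map H.subtype) H := by
  refine ⟨map_subtype_le _, P.2.map _, ?_⟩
  rw [relIndex, subgroupOf, comap_map_eq_self_of_injective H.subtype_injective]
  exact P.not_dvd_index

theorem exists_sylowIn_ge {Q H : Subgroup G} (hQ : IsPGroup p ↥Q) (hle : Q ≤ H) :
    ∃ T, IsSylowIn p T H ∧ Q ≤ T := by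
  obtain ⟨P, hP⟩ := (hQ.of_equiv (subgroupOfEquivOfLe hle).symm).exists_le_sylow
  refine ⟨_, isSylowIn_map_subtype P, fun x hx => ?_⟩
  exact ⟨⟨x, hle hx⟩, hP (mem_subgroupOf.2 hx), rfl⟩

theorem exists_sylowIn (H : Subgroup G) : ∃ T, IsSylowIn p T H :=
  let ⟨T, hT, _⟩ := exists_sylowIn_ge (H := H) IsPGroup.of_bot bot_le
  ⟨T, hT⟩

/-- Sylow's second theorem inside a subgroup. -/
theorem IsSylowIn.exists_cj_le {T H Q : Subgroup G} (h : IsSylowIn p T H) (hQ : IsPGroup p ↥Q)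
    (hle : Q ≤ H) : ∃ n ∈ H, n ⋆ Q ≤ T := by
  obtain ⟨P, rfl⟩ := h.exists_sylow
  obtain ⟨P', hP'⟩ := (hQ.of_equiv (subgroupOfEquivOfLe hle).symm).exists_le_sylow
  obtain ⟨n, hn⟩ := MulAction.exists_smul_eq H P' P
  refine ⟨n, n.2, cj_le_iff.2 fun x hx => ?_⟩
  have hx' : (⟨x, hle hx⟩ : H) ∈ (P' : Subgroup H) := hP' (mem_subgroupOf.2 hx)
  have hmem : n * ⟨x, hle hx⟩ * n⁻¹ ∈ (P : Subgroup H) := by
    rw [← hn, Sylow.coe_subgroup_smul]
    exact smul_mem_pointwise_smul _ (MulAut.conj n) _ hx'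
  exact ⟨_, hmem, by simp⟩

theorem IsSylowIn.card_le {T H Q : Subgroup G} (h : IsSylowIn p T H) (hQ : IsPGroup p ↥Q)
    (hle : Q ≤ H) : Nat.card Q ≤ Nat.card T := by
  obtain ⟨n, -, hn⟩ := h.exists_cj_le hQ hle
  exact (card_cj n Q).symm.trans_le (card_le_of_le hn)

theorem eq_of_le_of_card_le' {H K : Subgroup G} (h : H ≤ K) (hc : Nat.card K ≤ Nat.card H) :
    H = K :=
  SetLike.coe_injective (Set.eq_of_subset_of_ncard_le h
    (by rw [← Nat.card_coe_set_eq, ← Nat.card_coe_set_eq]; exact hc))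

theorem IsSylowIn.exists_cj_eq {T T' H : Subgroup G} (h : IsSylowIn p T H)
    (h' : IsSylowIn p T' H) : ∃ n ∈ H, n ⋆ T' = T := by
  obtain ⟨n, hn, hle⟩ := h.exists_cj_le h'.2.1 h'.1
  exact ⟨n, hn, eq_of_le_of_card_le' hle
    ((h'.card_le h.2.1 h.1).trans_eq (card_cj n T').symm)⟩

/-- A `p`-subgroup containing a Sylow subgroup equals it. -/
theorem IsSylowIn.eq_of_le {T H Q : Subgroup G} (h : IsSylowIn p T H) (hQ : IsPGroup p ↥Q)
    (hle : Q ≤ H) (hTQ : T ≤ Q) : T = Q :=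
  eq_of_le_of_card_le' hTQ (h.card_le hQ hle)

/-- A `p`-subgroup of the largest order is a Sylow subgroup. -/
theorem isSylowIn_of_card_le {T H : Subgroup G} (hTH : T ≤ H) (hT : IsPGroup p ↥T)
    (hmax : ∀ Q ≤ H, IsPGroup p ↥Q → Nat.card Q ≤ Nat.card T) : IsSylowIn p T H := by
  obtain ⟨T', hT', hle⟩ := exists_sylowIn_ge hT hTH
  rwa [eq_of_le_of_card_le' hle (hmax T' hT'.1 hT'.2.1)]

/-- A Sylow subgroup of `H` meets a subgroup normalized by `H` in a Sylow subgroup of it. -/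
theorem IsSylowIn.inf_normal {T H N : Subgroup G} (h : IsSylowIn p T H) (hN : N ≤ H)
    (hn : H ≤ normalizer (N : Set G)) : IsSylowIn p (T ⊓ N) N := by
  refine isSylowIn_of_card_le inf_le_right (h.2.1.to_le inf_le_left) fun Q hQN hQ => ?_
  obtain ⟨n, hnH, hnQ⟩ := h.exists_cj_le hQ (hQN.trans hN)
  refine (card_cj n Q).symm.trans_le (card_le_of_le (le_inf hnQ ?_))
  exact (cj_mono n hQN).trans_eq (mem_normalizer_iff_cj.1 (hn hnH))

theorem IsSylowIn.of_le {T H K : Subgroup G} (h : IsSylowIn p T H) (hTK : T ≤ K) (hKH : K ≤ H) :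
    IsSylowIn p T K :=
  ⟨hTK, h.2.1, fun hd => h.2.2 (hd.trans (Dvd.intro _ (relIndex_mul_relIndex T K H hTK hKH)))⟩

/-- Normalizers grow in `p`-groups. -/
theorem lt_inf_normalizer {S R : Subgroup G} (hS : IsPGroup p ↥S) (h : R < S) :
    R < S ⊓ normalizer (R : Set G) := by
  have := hS.isNilpotent
  refine lt_of_le_of_ne (le_inf h.le le_normalizer) fun he => h.ne ?_
  have hn : normalizer ((R.subgroupOf S : Subgroup S) : Set S) = R.subgroupOf S := by
    refine le_antisymm (fun x hx => ?_) le_normalizer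
    have hmem : (x : G) ∈ S ⊓ normalizer (R : Set G) := by
      refine ⟨x.2, mem_normalizer_iff.2 fun y => ?_⟩
      constructor
      · intro hy
        exact mem_subgroupOf.1 ((mem_normalizer_iff.1 hx ⟨y, h.le hy⟩).1 (mem_subgroupOf.2 hy))
      · intro hy
        have hyS : y ∈ S := by
          simpa [mul_assoc] using S.mul_mem (S.mul_mem (S.inv_mem x.2) (h.le hy)) x.2
        exact mem_subgroupOf.1 ((mem_normalizer_iff.1 hx ⟨y, hyS⟩).2 (mem_subgroupOf.2 hy))
    rw [← he] at hmem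
    exact mem_subgroupOf.2 hmem
  have := normalizerCondition_iff_only_full_group_self_normalizing.1
    Group.normalizerCondition_of_isNilpotent _ hn
  rw [← map_subgroupOf_eq_of_le h.le, this, ← MonoidHom.range_eq_map, range_subtype]

/-- Image of a Sylow subgroup under a homomorphism. -/
theorem IsSylowIn.map {H' : Type*} [Group H'] (f : G →* H') {T H : Subgroup G}
    (h : IsSylowIn p T H) : IsSylowIn p (T.map f) (H.map f) := by
  refine ⟨map_mono h.1, h.2.1.map f, fun hd => h.2.2 (hd.trans ?_)⟩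
  have hsurj := f.subgroupMap_surjective H
  have he : (T.subgroupOf H).map (f.subgroupMap H) = (T.map f).subgroupOf (H.map f) := by
    ext y
    simp only [mem_map, mem_subgroupOf]
    constructor
    · rintro ⟨x, hx, rfl⟩
      exact ⟨x, hx, rfl⟩
    · rintro ⟨x, hx, hxy⟩
      exact ⟨⟨x, h.1 hx⟩, hx, Subtype.ext hxy⟩
  rw [relIndex, relIndex, ← he]
  exact index_map_dvd _ hsurj

end CfsgLib.Functor
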