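import Cfsg.Agent.Functor.Sylow
import Cfsg.Prelude.Def_ConjugacyFunctors

/-!
The inductive scheme behind conjugation families and behind local-to-global control by conjugacy
functors.
-/

set_option autoImplicit false

namespace CfsgLib.Functor

open Subgroup

variable {G : Type*} [Group G]

/-- `U` is extremal in `S`: `N_S(U)` has index prime to `p` in `N_G(U)`. -/
def IsExtremal (p : ℕ) (S U : Subgroup G) : Prop :=
  ¬ p ∣ (S ⊓ normalizer (U : Set G)).relIndex (normalizer (U : Set G))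

/-- A conjugation of `A` performed step by step, left conjugation. -/
inductive Fuse (step : Subgroup G → G → Prop) : Subgroup G → G → Prop
  | nil (A : Subgroup G) : Fuse step A 1
  | cons {A : Subgroup G} {g x : G} : Fuse step A g → step (g ⋆ A) x → Fuse step A (x * g)

theorem Fuse.mono {step : Subgroup G → G → Prop}
    (hs : ∀ A B : Subgroup G, ∀ x : G, A ≤ B → step B x → step A x)
    {A B : Subgroup G} {g : G} (hAB : A ≤ B) (h : Fuse step B g) : Fuse step A g := by
  induction h with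
  | nil => exact .nil _
  | cons _ hx ih => exact .cons ih (hs _ _ _ (cj_mono _ hAB) hx)

theorem Fuse.of_step {step : Subgroup G → G → Prop} {A : Subgroup G} {x : G} (h : step A x) :
    Fuse step A x := by
  simpa using Fuse.cons (Fuse.nil A) (by rwa [cj_one])

theorem Fuse.comp {step : Subgroup G → G → Prop} {A : Subgroup G} {g : G}
    (h : Fuse step A g) {k : G} (hk : Fuse step (g ⋆ A) k) : Fuse step A (k * g) := by
  induction hk with
  | nil => simpa using h
  | cons h' hx ih =>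
    rw [mul_assoc]
    exact .cons ih (by rwa [← cj_cj])

theorem Fuse.inv {step : Subgroup G → G → Prop}
    (hs : ∀ A : Subgroup G, ∀ x : G, step A x → step (x ⋆ A) x⁻¹)
    {A : Subgroup G} {g : G} (h : Fuse step A g) : Fuse step (g ⋆ A) g⁻¹ := by
  induction h with
  | nil => simpa [cj_one] using Fuse.nil (step := step) _
  | @cons g x h hx ih =>
    rw [mul_inv_rev, ← cj_cj]
    exact (Fuse.of_step (hs _ _ hx)).comp (by rwa [cj_inv_cj])

variable [Finite G] {p : ℕ} [Fact p.Prime]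

theorem IsExtremal.sylowIn {S U : Subgroup G} (hS : IsPGroup p ↥S) (h : IsExtremal p S U) :
    IsSylowIn p (S ⊓ normalizer (U : Set G)) (normalizer (U : Set G)) :=
  ⟨inf_le_right, hS.to_le inf_le_left, h⟩

theorem IsExtremal.of_cj_inv {S U : Subgroup G} {g : G} (hg : g ⋆ S = S)
    (h : IsExtremal p S U) : IsExtremal p S (g ⋆ U) := by
  unfold IsExtremal
  rw [← cj_normalizer]
  conv => arg 1; arg 2; arg 1; arg 1; rw [← hg]
  rw [← cj_inf, cj_relIndex]
  exact h

/-- Every subgroup of `S` has an extremal conjugate, by an element carrying `N_S(A)` into `S`. -/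
theorem exists_extremal (S : Sylow p G) {A : Subgroup G} (hA : A ≤ S) :
    ∃ h : G, h ⋆ A ≤ S ∧ h ⋆ ((S : Subgroup G) ⊓ normalizer (A : Set G)) ≤ S ∧
      IsExtremal p (S : Subgroup G) (h ⋆ A) := by
  obtain ⟨T, hT, hle⟩ := exists_sylowIn_ge (H := normalizer (A : Set G))
    (S.2.to_le (inf_le_left : (S : Subgroup G) ⊓ normalizer (A : Set G) ≤ S)) inf_le_right
  obtain ⟨h, -, hh⟩ := (isSylowIn_top S).exists_cj_le hT.isPGroup le_top
  refine ⟨h, le_trans (cj_mono h (le_trans (le_inf hA le_normalizer) hle)) hh,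
    le_trans (cj_mono h hle) hh, ?_⟩
  have hT' : IsSylowIn p (h ⋆ T) (normalizer ((h ⋆ A : Subgroup G) : Set G)) := by
    simpa only [cj_normalizer] using hT.cj h
  have he : h ⋆ T = (S : Subgroup G) ⊓ normalizer ((h ⋆ A : Subgroup G) : Set G) :=
    hT'.eq_of_le (S.2.to_le inf_le_left) inf_le_right (le_inf hh hT'.le)
  rw [he] at hT'
  exact hT'.2.2

/-- A conjugation onto an extremal subgroup can be corrected to carry the normalizer in `S` into
`S`. -/
theorem exists_cj_normalizer_le (S : Sylow p G) {A U : Subgroup G}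
    (hU : IsExtremal p (S : Subgroup G) U) {h : G} (hh : h ⋆ A = U) :
    ∃ n ∈ normalizer (U : Set G), (n * h) ⋆ A = U ∧
      (n * h) ⋆ ((S : Subgroup G) ⊓ normalizer (A : Set G)) ≤ S := by
  obtain ⟨n, hn, hle⟩ := (hU.sylowIn S.2).exists_cj_le
    (isPGroup_cj h (S.2.to_le (inf_le_left : (S : Subgroup G) ⊓ normalizer (A : Set G) ≤ S)))
    (by rw [← hh, ← cj_normalizer]; exact cj_mono h inf_le_right)
  refine ⟨n, hn, ?_, ?_⟩
  · rw [← cj_cj, hh, mem_normalizer_iff_cj.1 hn]
  · rw [← cj_cj]; exact hle.trans inf_le_left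

/-- Downward induction for fusion in `S`.  `Q A g` says that the conjugation of `A` by `g` is
understood, `P V` is what is known about `N_G(V)`, and `R` selects the subgroups used. -/
theorem fusion_induction (S : Sylow p G) (Q : Subgroup G → G → Prop) (P R : Subgroup G → Prop)
    (choice : ∀ A : Subgroup G, A ≤ S → ∃ h : G, h ⋆ A ≤ S ∧
      h ⋆ ((S : Subgroup G) ⊓ normalizer (A : Set G)) ≤ S ∧
      IsExtremal p (S : Subgroup G) (h ⋆ A) ∧ R (h ⋆ A))
    (mono : ∀ (A B : Subgroup G) (g : G), A ≤ B → B ≤ S → g ⋆ B ≤ S → Q B g → Q A g)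
    (comp : ∀ (A : Subgroup G) (g h : G), A ≤ S → g ⋆ A ≤ S → (h * g) ⋆ A ≤ S →
      Q A g → Q (g ⋆ A) h → Q A (h * g))
    (inv : ∀ (A : Subgroup G) (g : G), A ≤ S → g ⋆ A ≤ S → Q A g → Q (g ⋆ A) g⁻¹)
    (bot : ∀ g : G, Q ⊥ g)
    (top : ∀ g ∈ normalizer ((S : Subgroup G) : Set G), Q (S : Subgroup G) g)
    (use : ∀ U : Subgroup G, U ≤ S → U ≠ ⊥ → IsExtremal p (S : Subgroup G) U → R U → P U →
      ∀ n ∈ normalizer (U : Set G), Q U n)
    (loc : ∀ V : Subgroup G, V ≤ S → V ≠ ⊥ →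
      (∀ (A : Subgroup G) (g : G), A ≤ S → g ⋆ A ≤ S →
        Nat.card ↥((S : Subgroup G) ⊓ normalizer (V : Set G)) ≤ Nat.card A → Q A g) →
      (∀ V' : Subgroup G, V' ≤ S → V' ≠ ⊥ →
        Nat.card ↥((S : Subgroup G) ⊓ normalizer (V : Set G)) <
          Nat.card ↥((S : Subgroup G) ⊓ normalizer (V' : Set G)) → P V') → P V) :
    (∀ (A : Subgroup G) (g : G), A ≤ S → g ⋆ A ≤ S → Q A g) ∧
      ∀ V : Subgroup G, V ≤ S → V ≠ ⊥ → P V := by
  suffices H : ∀ d m : ℕ, Nat.card (S : Subgroup G) + 1 ≤ d + m →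
      (∀ (A : Subgroup G) (g : G), A ≤ S → g ⋆ A ≤ S → m ≤ Nat.card A → Q A g) ∧
      (∀ V : Subgroup G, V ≤ S → V ≠ ⊥ →
        m ≤ Nat.card ↥((S : Subgroup G) ⊓ normalizer (V : Set G)) → P V) from
    ⟨fun A g hA hg => (H _ 0 le_rfl).1 A g hA hg (Nat.zero_le _),
      fun V hV hV1 => (H _ 0 le_rfl).2 V hV hV1 (Nat.zero_le _)⟩
  intro d
  induction d with
  | zero =>
    intro m hm
    refine ⟨fun A g hA _ h => ?_, fun V _ _ h => ?_⟩
    · have := card_le_of_le hA; omega
    · have : Nat.card ↥((S : Subgroup G) ⊓ normalizer (V : Set G)) ≤ Nat.card (S : Subgroup G) :=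
        card_le_of_le inf_le_left
      omega
  | succ d ih =>
    intro m hm
    obtain ⟨ihQ, ihP⟩ := ih (m + 1) (by omega)
    have hQ : ∀ (A : Subgroup G) (g : G), A ≤ S → g ⋆ A ≤ S → m ≤ Nat.card A → Q A g := by
      intro A g hA hg hmA
      by_cases h1 : A = ⊥
      · rw [h1]; exact bot g
      by_cases h2 : A = (S : Subgroup G)
      · subst h2
        exact top g (mem_normalizer_iff_cj.2 (eq_of_le_of_card_le' hg (card_cj g _).ge))
      obtain ⟨h, hU, hN, hext, hR⟩ := choice A hA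
      have hA_lt : A < (S : Subgroup G) := lt_of_le_of_ne hA h2
      have hgA : g ⋆ A < (S : Subgroup G) := lt_of_le_of_ne hg fun he => h2
        (eq_of_le_of_card_le' hA (by rw [← he, card_cj]))
      have hcard : ∀ B : Subgroup G, B < (S : Subgroup G) →
          Nat.card B < Nat.card ↥((S : Subgroup G) ⊓ normalizer (B : Set G)) := by
        intro B hB
        exact lt_of_not_ge fun hc => (lt_inf_normalizer S.2 hB).ne
          (eq_of_le_of_card_le' (lt_inf_normalizer S.2 hB).le hc)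
      have hAh : Q A h := by
        refine mono A _ h (le_inf hA le_normalizer) inf_le_left hN (ihQ _ h inf_le_left hN ?_)
        have := hcard A hA_lt; omega
      obtain ⟨n₀, -, hk, hkN⟩ := exists_cj_normalizer_le S hext
        (h := h * g⁻¹) (A := g ⋆ A) (by rw [cj_cj, mul_assoc, inv_mul_cancel, mul_one])
      set k := n₀ * (h * g⁻¹) with hk'
      have hBk : Q (g ⋆ A) k := by
        refine mono _ _ k (le_inf hg le_normalizer) inf_le_left hkN (ihQ _ k inf_le_left hkN ?_)
        have := hcard _ hgA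
        rw [card_cj] at this
        omega
      have hn : k * g * h⁻¹ ∈ normalizer ((h ⋆ A : Subgroup G) : Set G) := by
        rw [mem_normalizer_iff_cj, cj_cj, inv_mul_cancel_right, ← cj_cj, hk]
      have hU1 : h ⋆ A ≠ ⊥ := fun he => h1 (cj_eq_bot_iff.1 he)
      have hU2 : h ⋆ A < (S : Subgroup G) := lt_of_le_of_ne hU fun he => h2
        (eq_of_le_of_card_le' hA (by rw [← he, card_cj]))
      have hPU : P (h ⋆ A) := by
        refine ihP _ hU hU1 ?_
        have := hcard _ hU2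
        rw [card_cj] at this
        omega
      have hQn : Q (h ⋆ A) (k * g * h⁻¹) := use _ hU hU1 hext hR hPU _ hn
      have hkg : (k * g) ⋆ A = h ⋆ A := by rw [← cj_cj, hk]
      have step1 : Q A (k * g) := by
        have := comp A h (k * g * h⁻¹) hA hU (by rw [inv_mul_cancel_right, hkg]; exact hU) hAh hQn
        rwa [inv_mul_cancel_right] at this
      have step2 : Q ((k * g) ⋆ A) k⁻¹ := by
        have := inv (g ⋆ A) k hg (by rw [hk]; exact hU) hBk
        rwa [cj_cj] at this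
      have := comp A (k * g) k⁻¹ hA (by rw [hkg]; exact hU) (by rwa [inv_mul_cancel_left]) step1 step2
      rwa [inv_mul_cancel_left] at this
    refine ⟨hQ, fun V hV hV1 hmV => ?_⟩
    rcases Nat.lt_or_ge m (Nat.card ↥((S : Subgroup G) ⊓ normalizer (V : Set G))) with hlt | hge
    · exact ihP V hV hV1 hlt
    exact loc V hV hV1 (fun A g hA hg h => hQ A g hA hg (by omega))
      fun V' hV' hV'1 h => ihP V' hV' hV'1 (by omega)

/-- Conjugation families from extremal representatives. -/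
theorem fuse_of_family (S : Sylow p G) (𝓕 : Set (Subgroup G))
    (h : ∀ A : Subgroup G, A ≤ S → ∃ g : G, g ⋆ A ≤ S ∧
      IsExtremal p (S : Subgroup G) (g ⋆ A) ∧ g ⋆ A ∈ 𝓕)
    {A : Subgroup G} {g : G} (hA : A ≤ S) (hg : g ⋆ A ≤ S) :
    Fuse (fun B x => ∃ D ∈ 𝓕, B ≤ D ∧ x ∈ normalizer ((D : Subgroup G) : Set G)) A g := by
  set step : Subgroup G → G → Prop :=
    fun B x => ∃ D ∈ 𝓕, B ≤ D ∧ x ∈ normalizer ((D : Subgroup G) : Set G) with hstep
  have hS : (S : Subgroup G) ∈ 𝓕 := by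
    obtain ⟨g, hg, -, hmem⟩ := h _ (le_refl (S : Subgroup G))
    rwa [eq_of_le_of_card_le' hg (card_cj g _).ge] at hmem
  refine (fusion_induction S (Fuse step) (fun _ => True) (fun U => U ∈ 𝓕) ?_ ?_ ?_ ?_ ?_ ?_ ?_
    (fun _ _ _ _ _ => trivial)).1 A g hA hg
  · intro A hA
    obtain ⟨g, hg, hext, hmem⟩ := h A hA
    obtain ⟨n, -, hn, hle⟩ := exists_cj_normalizer_le S hext rfl
    exact ⟨n * g, by rwa [hn], hle, by rwa [hn], by rwa [hn]⟩
  · exact fun A B g hAB _ _ hB =>
      hB.mono (fun A B x hle ⟨D, hD, hBD, hx⟩ => ⟨D, hD, hle.trans hBD, hx⟩) hAB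
  · exact fun A g k _ _ _ h1 h2 => h1.comp h2
  · intro A g _ _ h1
    refine h1.inv ?_
    rintro B x ⟨D, hD, hBD, hx⟩
    exact ⟨D, hD, (cj_mono x hBD).trans (mem_normalizer_iff_cj.1 hx).le, inv_mem hx⟩
  · intro g
    obtain ⟨k, -, -, hk⟩ := h ⊥ bot_le
    rw [cj_eq_bot_iff.2 rfl] at hk
    exact .of_step ⟨⊥, hk, le_rfl, by rw [normalizer_eq_top]; exact mem_top _⟩
  · exact fun g hg => .of_step ⟨_, hS, le_rfl, hg⟩
  · exact fun U _ _ _ hU _ n hn => .of_step ⟨U, hU, le_rfl, hn⟩

end CfsgLib.Functor
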