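import Cfsg.Agent.Functor.Functors
import Cfsg.Prelude.Def_Amalgam
import Cfsg.Agent.Solvable.Basics

/-!
Working inside a subgroup: restricted functors, `O_p` of a subgroup, the Frattini argument.
-/

set_option autoImplicit false
set_option linter.unusedSectionVars false

namespace CfsgLib.Functor

open Subgroup

variable {G : Type*} [Group G]

/-- Restriction of a functor to the subgroups of `H`. -/
def restrict (H : Subgroup G) (W : Subgroup G → Subgroup G) : Subgroup H → Subgroup H :=
  fun K => (W (K.map H.subtype)).comap H.subtype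

theorem cj_map_subtype {H : Subgroup G} (g : H) (K : Subgroup H) :
    (g ⋆ K).map H.subtype = (g : G) ⋆ (K.map H.subtype) := by
  rw [map_map, map_map]
  congr 1

theorem map_normalizer_eq {H : Subgroup G} (K : Subgroup H) :
    (normalizer (K : Set H)).map H.subtype =
      H ⊓ normalizer ((K.map H.subtype : Subgroup G) : Set G) := by
  ext x
  constructor
  · rintro ⟨y, hy, rfl⟩
    refine ⟨y.2, mem_normalizer_iff_cj.2 ?_⟩
    show (y : G) ⋆ _ = _
    rw [← cj_map_subtype]
    rw [show y ⋆ K = K from mem_normalizer_iff_cj.1 hy]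
  · rintro ⟨hxH, hx⟩
    refine ⟨⟨x, hxH⟩, mem_normalizer_iff_cj.2 (map_injective H.subtype_injective ?_), rfl⟩
    rw [cj_map_subtype]
    exact mem_normalizer_iff_cj.1 hx

theorem restrict_map {p : ℕ} {W : Subgroup G → Subgroup G} (hW : Cfsg.IsConjugacyFunctor p W)
    {H : Subgroup G} {K : Subgroup H} (hK : IsPGroup p K) :
    (restrict H W K).map H.subtype = W (K.map H.subtype) :=
  map_comap_eq_self (by
    rw [range_subtype]
    exact (functor_le hW (hK.map _)).trans (map_subtype_le K))

theorem isConjugacyFunctor_restrict {p : ℕ} {W : Subgroup G → Subgroup G}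
    (hW : Cfsg.IsConjugacyFunctor p W) (H : Subgroup G) :
    Cfsg.IsConjugacyFunctor p (restrict H W) := by
  refine fun K hK => ⟨?_, fun hne he => ?_, fun g => map_injective H.subtype_injective ?_⟩
  · rw [← map_le_map_iff_of_injective H.subtype_injective, restrict_map hW hK]
    exact functor_le hW (hK.map _)
  · refine functor_ne_bot hW (hK.map H.subtype) ?_ ?_
    · rwa [Ne, map_eq_bot_iff_of_injective _ H.subtype_injective]
    · rw [← restrict_map hW hK, he, Subgroup.map_bot]
  · rw [restrict_map hW (hK.map _), cj_map_subtype, functor_cj hW (hK.map _), cj_map_subtype,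
      restrict_map hW hK]

theorem pCoreOf_le (p : ℕ) (H : Subgroup G) : Cfsg.pCoreOf p H ≤ H := map_subtype_le _

theorem le_normalizer_map_of_normal {H : Subgroup G} (K : Subgroup H) [hK : K.Normal] :
    H ≤ normalizer ((K.map H.subtype : Subgroup G) : Set G) := fun x hx =>
  mem_normalizer_iff_cj.2 (by
    have := cj_map_subtype (⟨x, hx⟩ : H) K
    rw [mem_normalizer_iff_cj.1 (by rw [normalizer_eq_top]; exact mem_top _)] at this
    exact this.symm)

theorem le_normalizer_pCoreOf [Finite G] (p : ℕ) (H : Subgroup G) :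
    H ≤ normalizer ((Cfsg.pCoreOf p H : Subgroup G) : Set G) :=
  le_normalizer_map_of_normal _

variable [Finite G] {p : ℕ} [Fact p.Prime]

theorem isPGroup_pCoreOf (H : Subgroup G) : IsPGroup p ↥(Cfsg.pCoreOf p H) :=
  (Solvable.isPGroup_pCore p).map _

theorem normal_subgroupOf_of_le {H N : Subgroup G} (hN : H ≤ normalizer (N : Set G)) :
    (N.subgroupOf H).Normal :=
  ⟨fun _ ha g => mem_subgroupOf.2 ((mem_normalizer_iff.1 (hN g.2) _).1 (mem_subgroupOf.1 ha))⟩

theorem le_pCoreOf {H N : Subgroup G} (hNH : N ≤ H) (hN : H ≤ normalizer (N : Set G))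
    (hp : IsPGroup p N) : N ≤ Cfsg.pCoreOf p H := by
  have h := map_mono (f := H.subtype) (Solvable.le_pCore (p := p) (normal_subgroupOf_of_le hN)
    (hp.of_equiv (subgroupOfEquivOfLe hNH).symm))
  rwa [map_subgroupOf_eq_of_le hNH] at h

theorem pCoreOf_le_sylowIn {T H : Subgroup G} (hT : IsSylowIn p T H) : Cfsg.pCoreOf p H ≤ T := by
  obtain ⟨n, hn, hle⟩ := hT.exists_cj_le (isPGroup_pCoreOf H) (pCoreOf_le p H)
  rwa [mem_normalizer_iff_cj.1 (le_normalizer_pCoreOf p H hn)] at hle

/-- The Frattini argument for a subgroup normalized by `H`. -/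
theorem IsSylowIn.frattini {T H N : Subgroup G} (hT : IsSylowIn p T H) (hNH : N ≤ H)
    (hn : H ≤ normalizer (N : Set G)) {h : G} (hh : h ∈ H) :
    ∃ c ∈ N, ∃ n ∈ H ⊓ normalizer ((T ⊓ N : Subgroup G) : Set G), h = c * n := by
  have h1 := hT.inf_normal hNH hn
  obtain ⟨c, hc, hceq⟩ := (h1.cj_of_mem (hn hh)).exists_cj_eq h1
  refine ⟨c, hc, c⁻¹ * h, mem_inf.2 ⟨mul_mem (inv_mem (hNH hc)) hh, mem_normalizer_iff_cj.2 ?_⟩,
    (mul_inv_cancel_left c h).symm⟩
  rw [← cj_cj, ← hceq, cj_inv_cj]

end CfsgLib.Functor
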