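import Cfsg.Agent.Functor.Functors

/-!
Control of strong fusion by sets of conjugacy functors: reformulation with subgroups and chains,
independence of the Sylow subgroup, and the local-to-global theorem.
-/

set_option autoImplicit false

namespace CfsgLib.Functor

open Subgroup

variable {G : Type*} [Group G]

/-- One step of a chain inside `S`: conjugation by an element of a member of `𝓝`, staying in `S`. -/
def LocalStep (𝓝 : Set (Subgroup G)) (S B : Subgroup G) (x : G) : Prop :=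
  B ≤ S ∧ x ⋆ B ≤ S ∧ ∃ N ∈ 𝓝, x ∈ N

/-- `g` acts on `A` as a chain of steps inside members of `𝓝`, staying in `S`. -/
def Chain (𝓝 : Set (Subgroup G)) (S A : Subgroup G) (g : G) : Prop :=
  ∃ w : G, Fuse (LocalStep 𝓝 S) A w ∧ ∀ a ∈ A, w * a * w⁻¹ = g * a * g⁻¹

theorem cj_eq_of_agree {A : Subgroup G} {w g : G}
    (h : ∀ a ∈ A, w * a * w⁻¹ = g * a * g⁻¹) : w ⋆ A = g ⋆ A := by
  ext x
  constructor
  · rintro ⟨a, ha, rfl⟩; exact ⟨a, ha, by simpa using (h a ha).symm⟩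
  · rintro ⟨a, ha, rfl⟩; exact ⟨a, ha, by simpa using h a ha⟩

theorem Chain.one (𝓝 : Set (Subgroup G)) (S A : Subgroup G) : Chain 𝓝 S A 1 :=
  ⟨1, .nil A, fun _ _ => rfl⟩

theorem Chain.congr {𝓝 : Set (Subgroup G)} {S A : Subgroup G} {g g' : G} (h : Chain 𝓝 S A g)
    (he : ∀ a ∈ A, g * a * g⁻¹ = g' * a * g'⁻¹) : Chain 𝓝 S A g' :=
  let ⟨w, hw, hag⟩ := h
  ⟨w, hw, fun a ha => (hag a ha).trans (he a ha)⟩

theorem Chain.mono {𝓝 : Set (Subgroup G)} {S A B : Subgroup G} {g : G} (hAB : A ≤ B)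
    (h : Chain 𝓝 S B g) : Chain 𝓝 S A g :=
  let ⟨w, hw, hag⟩ := h
  ⟨w, hw.mono (fun _ _ x hle hs => ⟨hle.trans hs.1, (cj_mono x hle).trans hs.2.1, hs.2.2⟩) hAB,
    fun a ha => hag a (hAB ha)⟩

theorem Chain.comp {𝓝 : Set (Subgroup G)} {S A : Subgroup G} {g h : G} (h1 : Chain 𝓝 S A g)
    (h2 : Chain 𝓝 S (g ⋆ A) h) : Chain 𝓝 S A (h * g) := by
  obtain ⟨w, hw, hag⟩ := h1
  obtain ⟨v, hv, hvag⟩ := h2
  refine ⟨v * w, hw.comp (by rwa [cj_eq_of_agree hag]), fun a ha => ?_⟩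
  calc v * w * a * (v * w)⁻¹ = v * (w * a * w⁻¹) * v⁻¹ := by group
    _ = v * (g * a * g⁻¹) * v⁻¹ := by rw [hag a ha]
    _ = h * (g * a * g⁻¹) * h⁻¹ := hvag _ (conj_mem_cj ha)
    _ = h * g * a * (h * g)⁻¹ := by group

theorem Chain.inv {𝓝 : Set (Subgroup G)} {S A : Subgroup G} {g : G} (h : Chain 𝓝 S A g) :
    Chain 𝓝 S (g ⋆ A) g⁻¹ := by
  obtain ⟨w, hw, hag⟩ := h
  rw [← cj_eq_of_agree hag]
  refine ⟨w⁻¹, hw.inv ?_, ?_⟩
  · rintro B x ⟨hB, hxB, N, hN, hx⟩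
    exact ⟨hxB, by rwa [cj_inv_cj], N, hN, inv_mem hx⟩
  · intro y hy
    obtain ⟨a, ha, rfl⟩ := hy
    simp only [MulEquiv.coe_toMonoidHom, MulAut.conj_apply, inv_inv]
    conv_rhs => rw [hag a ha]
    group

theorem Chain.of_mem {𝓝 : Set (Subgroup G)} {S A : Subgroup G} {g : G} {N : Subgroup G}
    (hN : N ∈ 𝓝) (hg : g ∈ N) (hA : A ≤ S) (hgA : g ⋆ A ≤ S) : Chain 𝓝 S A g :=
  ⟨g, .of_step ⟨hA, hgA, N, hN, hg⟩, fun _ _ => rfl⟩

/-- Substituting chains for the steps of a chain. -/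
theorem Chain.bind {𝓝 𝓝' : Set (Subgroup G)} {S S' A : Subgroup G} {g : G}
    (h : Chain 𝓝 S A g)
    (hstep : ∀ (B : Subgroup G) (x : G), LocalStep 𝓝 S B x → Chain 𝓝' S' B x) :
    Chain 𝓝' S' A g := by
  obtain ⟨w, hw, hag⟩ := h
  suffices Chain 𝓝' S' A w from this.congr hag
  clear hag
  induction hw with
  | nil => exact Chain.one _ _ _
  | cons _ hx ih => exact ih.comp (hstep _ _ hx)

/-- Conjugating a chain. -/
theorem Chain.cj {𝓝 : Set (Subgroup G)} {S A : Subgroup G} {g : G} (h : Chain 𝓝 S A g) (n : G) :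
    Chain ((fun N => n ⋆ N) '' 𝓝) (n ⋆ S) (n ⋆ A) (n * g * n⁻¹) := by
  obtain ⟨w, hw, hag⟩ := h
  refine ⟨n * w * n⁻¹, ?_, ?_⟩
  · clear hag
    induction hw with
    | nil => simpa using Fuse.nil _
    | @cons w x _ hx ih =>
      obtain ⟨hB, hxB, N, hN, hxN⟩ := hx
      rw [show n * (x * w) * n⁻¹ = (n * x * n⁻¹) * (n * w * n⁻¹) by group]
      refine .cons ih ?_
      have e : (n * w * n⁻¹) ⋆ (n ⋆ A) = n ⋆ (w ⋆ A) := by simp only [cj_cj]; group
      rw [e]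
      refine ⟨cj_mono n hB, ?_, _, ⟨N, hN, rfl⟩, conj_mem_cj hxN⟩
      rw [cj_cj, inv_mul_cancel_right, ← cj_cj]
      exact cj_mono n hxB
  · rintro _ ⟨a, ha, rfl⟩
    simp only [MulEquiv.coe_toMonoidHom, MulAut.conj_apply]
    calc n * w * n⁻¹ * (n * a * n⁻¹) * (n * w * n⁻¹)⁻¹ = n * (w * a * w⁻¹) * n⁻¹ := by group
      _ = n * (g * a * g⁻¹) * n⁻¹ := by rw [hag a ha]
      _ = n * g * n⁻¹ * (n * a * n⁻¹) * (n * g * n⁻¹)⁻¹ := by group

/-- The local subgroups attached to a set of functors. -/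
def locals (𝓦 : Set (Subgroup G → Subgroup G)) (H T : Subgroup G) : Set (Subgroup G) :=
  (fun W : Subgroup G → Subgroup G => H ⊓ normalizer ((W T : Subgroup G) : Set G)) '' 𝓦

/-- Every conjugation in `H` between subgroups of `T` is a chain inside `𝓝`. -/
def Controls (𝓝 : Set (Subgroup G)) (T H : Subgroup G) : Prop :=
  ∀ (A : Subgroup G) (h : G), h ∈ H → A ≤ T → h ⋆ A ≤ T → Chain 𝓝 T A h

theorem exists_seq_of_chain {𝓦 : Set (Subgroup G → Subgroup G)} {H T : Subgroup G}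
    {A : Subgroup G} {g : G} (hA : A ≤ T) (h : Chain (locals 𝓦 H T) T A g) :
    ∃ (n : ℕ) (c : Fin (n + 1) → G), c 0 = 1 ∧
      (∀ i : Fin n, ∃ W ∈ 𝓦,
        c i.succ * (c i.castSucc)⁻¹ ∈ H ⊓ normalizer ((W T : Subgroup G) : Set G)) ∧
      (∀ i, c i ⋆ A ≤ T) ∧ ∀ a ∈ A, c (Fin.last n) * a * (c (Fin.last n))⁻¹ = g * a * g⁻¹ := by
  obtain ⟨w, hw, hag⟩ := h
  suffices ∃ (n : ℕ) (c : Fin (n + 1) → G), c 0 = 1 ∧
      (∀ i : Fin n, ∃ W ∈ 𝓦,
        c i.succ * (c i.castSucc)⁻¹ ∈ H ⊓ normalizer ((W T : Subgroup G) : Set G)) ∧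
      (∀ i, c i ⋆ A ≤ T) ∧ c (Fin.last n) = w by
    obtain ⟨n, c, h0, hs, hin, hl⟩ := this
    exact ⟨n, c, h0, hs, hin, by rw [hl]; exact hag⟩
  clear hag
  induction hw with
  | nil => exact ⟨0, fun _ => 1, rfl, fun i => i.elim0, fun _ => by rwa [cj_one], rfl⟩
  | @cons w x _ hx ih =>
    obtain ⟨-, hxB, -, ⟨W, hW, rfl⟩, hxN⟩ := hx
    obtain ⟨n, c, h0, hs, hin, hl⟩ := ih
    refine ⟨n + 1, Fin.snoc c (x * w), ?_, ?_, ?_, Fin.snoc_last _ _⟩
    · exact (Fin.snoc_castSucc (i := (0 : Fin (n + 1))) ..).trans h0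
    · intro i
      induction i using Fin.lastCases with
      | last =>
        refine ⟨W, hW, ?_⟩
        rw [Fin.succ_last, Fin.snoc_last, Fin.snoc_castSucc, hl, mul_inv_cancel_right]
        exact hxN
      | cast i =>
        obtain ⟨W', hW', hm⟩ := hs i
        refine ⟨W', hW', ?_⟩
        rwa [Fin.succ_castSucc, Fin.snoc_castSucc, Fin.snoc_castSucc]
    · intro i
      induction i using Fin.lastCases with
      | last => rw [Fin.snoc_last, ← cj_cj]; exact hxB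
      | cast i => rw [Fin.snoc_castSucc]; exact hin i

theorem familyControls_of_controls {p : ℕ} {𝓦 : Set (Subgroup G → Subgroup G)}
    {H T : Subgroup G} (hT : IsSylowIn p T H) (h : Controls (locals 𝓦 H T) T H) :
    Cfsg.FamilyControlsStrongFusionIn p 𝓦 H := by
  refine ⟨T, hT.1, hT.2.1, hT.2.2, fun A g hg hA hgA => ?_⟩
  have hle : closure A ≤ T := (closure_le _).2 hA
  have hle' : g ⋆ closure A ≤ T := by
    rw [MonoidHom.map_closure, closure_le]
    exact hgA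
  obtain ⟨n, c, h0, hs, hin, hl⟩ := exists_seq_of_chain hle (h _ g hg hle hle')
  refine ⟨n, c, h0, hs, fun i => ?_, fun a ha => hl a (subset_closure ha)⟩
  rintro _ ⟨a, ha, rfl⟩
  exact hin i (conj_mem_cj (subset_closure ha))

theorem controls_of_family {p : ℕ} {𝓦 : Set (Subgroup G → Subgroup G)}
    {H : Subgroup G} (h : Cfsg.FamilyControlsStrongFusionIn p 𝓦 H) :
    ∃ T, IsSylowIn p T H ∧ Controls (locals 𝓦 H T) T H := by
  obtain ⟨T, h1, h2, h3, h4⟩ := h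
  refine ⟨T, ⟨h1, h2, h3⟩, fun A g hg hA hgA => ?_⟩
  obtain ⟨n, c, h0, hs, hin, hl⟩ := h4 (A : Set G) g hg hA (by
    rintro _ ⟨a, ha, rfl⟩
    exact hgA (conj_mem_cj ha))
  have hin' : ∀ i, c i ⋆ A ≤ T := fun i => cj_le_iff.2 fun a ha => hin i ⟨a, ha, rfl⟩
  refine Chain.congr ?_ hl
  suffices ∀ i : Fin (n + 1), Chain (locals 𝓦 H T) T A (c i) from this _
  intro i
  induction i using Fin.induction with
  | zero => rw [h0]; exact Chain.one _ _ _
  | succ i ih =>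
    obtain ⟨W, hW, hx⟩ := hs i
    have : Chain (locals 𝓦 H T) T (c i.castSucc ⋆ A) (c i.succ * (c i.castSucc)⁻¹) :=
      Chain.of_mem ⟨W, hW, rfl⟩ hx (hin' _) (by rw [cj_cj, inv_mul_cancel_right]; exact hin' _)
    simpa using ih.comp this

variable [Finite G] {p : ℕ} [Fact p.Prime]

theorem locals_cj {𝓦 : Set (Subgroup G → Subgroup G)}
    (h𝓦 : ∀ W ∈ 𝓦, Cfsg.IsConjugacyFunctor p W) {H T : Subgroup G} (hT : IsPGroup p ↥T) {n : G}
    (hn : n ∈ normalizer (H : Set G)) :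
    (fun N => n ⋆ N) '' locals 𝓦 H T = locals 𝓦 H (n ⋆ T) := by
  unfold locals
  rw [Set.image_image]
  refine Set.image_congr fun W hW => ?_
  rw [cj_inf, mem_normalizer_iff_cj.1 hn, cj_normalizer, functor_cj (h𝓦 W hW) hT]

/-- Control does not depend on the Sylow subgroup. -/
theorem Controls.change {𝓦 : Set (Subgroup G → Subgroup G)}
    (h𝓦 : ∀ W ∈ 𝓦, Cfsg.IsConjugacyFunctor p W) {H T T' : Subgroup G}
    (hT : IsSylowIn p T H) (hT' : IsSylowIn p T' H) (h : Controls (locals 𝓦 H T) T H) :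
    Controls (locals 𝓦 H T') T' H := by
  obtain ⟨n, hn, hnT⟩ := hT'.exists_cj_eq hT
  intro A g hg hA hgA
  have h1 : n⁻¹ ⋆ A ≤ T := by rw [cj_le_iff', inv_inv, hnT]; exact hA
  have h2 : (n⁻¹ * g * n) ⋆ (n⁻¹ ⋆ A) ≤ T := by
    rw [cj_cj, mul_inv_cancel_right, ← cj_cj, cj_le_iff', inv_inv, hnT]
    exact hgA
  have := (h _ _ (mul_mem (mul_mem (inv_mem hn) hg) hn) h1 h2).cj n
  rw [locals_cj h𝓦 hT.isPGroup (le_normalizer hn), hnT, cj_cj_inv] at this
  convert this using 1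
  group

theorem controls_iff_family {𝓦 : Set (Subgroup G → Subgroup G)}
    (h𝓦 : ∀ W ∈ 𝓦, Cfsg.IsConjugacyFunctor p W) {H T : Subgroup G} (hT : IsSylowIn p T H) :
    Cfsg.FamilyControlsStrongFusionIn p 𝓦 H ↔ Controls (locals 𝓦 H T) T H := by
  refine ⟨fun h => ?_, familyControls_of_controls hT⟩
  obtain ⟨T', hT', h'⟩ := controls_of_family h
  exact h'.change h𝓦 hT' hT

/-- Local-to-global control of strong fusion. -/
theorem controls_top_of_local (S : Sylow p G) (𝓦 : Set (Subgroup G → Subgroup G))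
    (h𝓦 : ∀ W ∈ 𝓦, Cfsg.IsConjugacyFunctor p W) (R : Subgroup G → Prop)
    (choice : ∀ A : Subgroup G, A ≤ S → ∃ h : G, h ⋆ A ≤ S ∧
      h ⋆ ((S : Subgroup G) ⊓ normalizer (A : Set G)) ≤ S ∧
      IsExtremal p (S : Subgroup G) (h ⋆ A) ∧ R (h ⋆ A))
    (hloc : ∀ V : Subgroup G, V ≤ S → V ≠ ⊥ → IsExtremal p (S : Subgroup G) V → R V →
      Controls (locals 𝓦 (normalizer (V : Set G)) ((S : Subgroup G) ⊓ normalizer (V : Set G)))
        ((S : Subgroup G) ⊓ normalizer (V : Set G)) (normalizer (V : Set G))) :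
    Controls (locals 𝓦 ⊤ (S : Subgroup G)) (S : Subgroup G) ⊤ := by
  set 𝓝 := locals 𝓦 ⊤ (S : Subgroup G) with h𝓝
  set P : Subgroup G → Prop := fun V => ∀ (A : Subgroup G) (n : G),
    n ∈ normalizer (V : Set G) → A ≤ (S : Subgroup G) ⊓ normalizer (V : Set G) →
      n ⋆ A ≤ (S : Subgroup G) ⊓ normalizer (V : Set G) → Chain 𝓝 (S : Subgroup G) A n with hP
  have loc : ∀ V : Subgroup G, V ≤ S → V ≠ ⊥ →
      (∀ (A : Subgroup G) (g : G), A ≤ S → g ⋆ A ≤ S →
        Nat.card ↥((S : Subgroup G) ⊓ normalizer (V : Set G)) ≤ Nat.card A →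
          Chain 𝓝 (S : Subgroup G) A g) →
      (∀ V' : Subgroup G, V' ≤ S → V' ≠ ⊥ →
        Nat.card ↥((S : Subgroup G) ⊓ normalizer (V : Set G)) <
          Nat.card ↥((S : Subgroup G) ⊓ normalizer (V' : Set G)) → P V') → P V := by
    intro V hV hV1 hQ ihP A n hn hA hnA
    obtain ⟨h, hhV, hhN, hext, hR⟩ := choice V hV
    set N := (S : Subgroup G) ⊓ normalizer (V : Set G) with hN
    set N' := (S : Subgroup G) ⊓ normalizer ((h ⋆ V : Subgroup G) : Set G) with hN'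
    have hNN' : h ⋆ N ≤ N' := le_inf hhN (by rw [← cj_normalizer]; exact cj_mono h inf_le_right)
    have hh : Chain 𝓝 (S : Subgroup G) N h := hQ N h inf_le_left hhN le_rfl
    have hn' : h * n * h⁻¹ ∈ normalizer ((h ⋆ V : Subgroup G) : Set G) := by
      rw [← cj_normalizer]; exact conj_mem_cj hn
    have hA' : h ⋆ A ≤ N' := (cj_mono h hA).trans hNN'
    have hnA' : (h * n * h⁻¹) ⋆ (h ⋆ A) ≤ N' := by
      rw [cj_cj, inv_mul_cancel_right, ← cj_cj]
      exact (cj_mono h hnA).trans hNN'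
    have hloc' := hloc _ hhV (fun he => hV1 (cj_eq_bot_iff.1 he)) hext hR _ _ hn' hA' hnA'
    have hmid : Chain 𝓝 (S : Subgroup G) (h ⋆ A) (h * n * h⁻¹) := by
      refine hloc'.bind ?_
      rintro B x ⟨hB, hxB, _, ⟨W, hW, rfl⟩, hx⟩
      by_cases hS : N' = (S : Subgroup G)
      · rw [← hN', hS] at hx hB hxB
        exact Chain.of_mem (Set.mem_image_of_mem _ hW) ⟨mem_top x, hx.2⟩ hB hxB
      have hN'p : IsPGroup p ↥N' := S.2.to_le inf_le_left
      have hN'1 : N' ≠ ⊥ := by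
        intro he
        have : h ⋆ V ≤ ⊥ := he ▸ le_inf hhV le_normalizer
        exact hV1 (cj_eq_bot_iff.1 (le_bot_iff.1 this))
      have hle : (S : Subgroup G) ⊓ normalizer (N' : Set G) ≤
          (S : Subgroup G) ⊓ normalizer ((W N' : Subgroup G) : Set G) :=
        inf_le_inf_left _ (normalizer_le_functor (h𝓦 W hW) hN'p)
      have hgt : N' < (S : Subgroup G) ⊓ normalizer (N' : Set G) :=
        lt_inf_normalizer S.2 (lt_of_le_of_ne inf_le_left hS)
      refine ihP (W N') (le_trans (functor_le (h𝓦 W hW) hN'p) inf_le_left)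
        (functor_ne_bot (h𝓦 W hW) hN'p hN'1) ?_ B x hx.2
        (hB.trans (hgt.le.trans hle)) (hxB.trans (hgt.le.trans hle))
      have h1 : Nat.card ↥N ≤ Nat.card ↥N' := (card_cj h N).symm.trans_le (card_le_of_le hNN')
      have h2 : Nat.card ↥N' < Nat.card ↥((S : Subgroup G) ⊓ normalizer (N' : Set G)) :=
        lt_of_not_ge fun hc => hgt.ne (eq_of_le_of_card_le' hgt.le hc)
      have h3 := card_le_of_le hle
      omega
    have h1 : Chain 𝓝 (S : Subgroup G) A (h * n) := by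
      simpa using (hh.mono hA).comp hmid
    have h2 : Chain 𝓝 (S : Subgroup G) ((h * n) ⋆ A) h⁻¹ := by
      have := (hh.mono hnA).inv
      rwa [cj_cj] at this
    simpa using h1.comp h2
  intro A g _ hA hg
  refine (fusion_induction S (Chain 𝓝 (S : Subgroup G)) P R choice
    (fun A B g hAB _ _ h => h.mono hAB) (fun A g h _ _ _ h1 h2 => h1.comp h2)
    (fun A g _ _ h => h.inv) ?_ ?_ ?_ loc).1 A g hA hg
  · exact fun g => ⟨1, .nil _, by simp⟩
  · intro g hg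
    by_cases hS : (S : Subgroup G) = ⊥
    · exact ⟨1, .nil _, fun a ha => by rw [hS, mem_bot] at ha; simp [ha]⟩
    obtain ⟨h, hhS, -, hext, hR⟩ := choice _ (le_refl (S : Subgroup G))
    have hhS' : h ⋆ (S : Subgroup G) = (S : Subgroup G) :=
      eq_of_le_of_card_le' hhS (card_cj h _).ge
    rw [hhS'] at hext hR
    have hN : (S : Subgroup G) ⊓ normalizer ((S : Subgroup G) : Set G) = (S : Subgroup G) :=
      inf_eq_left.2 le_normalizer
    refine (hloc _ le_rfl hS hext hR _ g hg (le_inf le_rfl le_normalizer) ?_).bind ?_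
    · rw [mem_normalizer_iff_cj.1 hg, hN]
    rintro B x ⟨hB, hxB, _, ⟨W, hW, rfl⟩, hx⟩
    rw [hN] at hx hB hxB
    exact Chain.of_mem (Set.mem_image_of_mem _ hW) ⟨mem_top x, hx.2⟩ hB hxB
  · intro U hU _ _ _ hPU n hn
    refine hPU U n hn (le_inf hU le_normalizer) ?_
    rw [mem_normalizer_iff_cj.1 hn]
    exact le_inf hU le_normalizer

/-- A single functor. -/
theorem familyControls_singleton_iff (W : Subgroup G → Subgroup G)
    (hW : Cfsg.IsConjugacyFunctor p W) (H : Subgroup G) :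
    Cfsg.FamilyControlsStrongFusionIn p {W} H ↔ Cfsg.ControlsStrongFusionIn p W H := by
  constructor
  · rintro ⟨T, h1, h2, h3, h4⟩
    refine ⟨T, h1, h2, h3, fun A g hg hA hgA => ?_⟩
    obtain ⟨n, c, h0, hs, hin, hl⟩ := h4 A g hg hA hgA
    refine ⟨c (Fin.last n), ?_, hl⟩
    have : ∀ i : Fin (n + 1), c i ∈ H ⊓ normalizer ((W T : Subgroup G) : Set G) := by
      intro i
      induction i using Fin.induction with
      | zero => rw [h0]; exact one_mem _
      | succ i ih =>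
        obtain ⟨W', rfl, hx⟩ := hs i
        simpa using mul_mem hx ih
    exact this _
  · rintro ⟨T, h1, h2, h3, h4⟩
    refine familyControls_of_controls ⟨h1, h2, h3⟩ fun A g hg hA hgA => ?_
    obtain ⟨x, hx, hag⟩ := h4 (A : Set G) g hg hA
      (by rintro _ ⟨a, ha, rfl⟩; exact hgA (conj_mem_cj ha))
    refine Chain.congr (Chain.of_mem ⟨W, rfl, rfl⟩ hx hA ?_) hag
    rwa [cj_eq_of_agree hag]

end CfsgLib.Functor
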