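import Cfsg.Agent.Functor.Fusion

/-!
Conjugation families in the right-conjugation convention of the definition.
-/

set_option autoImplicit false

namespace CfsgLib.Functor

open Subgroup

variable {G : Type*} [Group G]

theorem exists_list_of_fuse {𝓕 : Set (Subgroup G)} {A : Subgroup G} {g : G}
    (h : Fuse (fun B x => ∃ D ∈ 𝓕, B ≤ D ∧ x ∈ normalizer ((D : Subgroup G) : Set G)) A g) :
    ∃ (n : ℕ) (T : Fin n → Subgroup G) (x : Fin n → G), (List.ofFn x).prod = g⁻¹ ∧
      (∀ i, T i ∈ 𝓕) ∧ (∀ i, x i ∈ normalizer ((T i : Subgroup G) : Set G)) ∧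
      ∀ i : Fin n, (((List.ofFn x).take i.val).prod)⁻¹ ⋆ A ≤ T i := by
  induction h with
  | nil => exact ⟨0, Fin.elim0, Fin.elim0, by simp, fun i => i.elim0, fun i => i.elim0,
      fun i => i.elim0⟩
  | @cons g x _ hx ih =>
    obtain ⟨D, hD, hle, hxD⟩ := hx
    obtain ⟨n, T, y, hprod, hT, hy, hA⟩ := ih
    have hy' : List.ofFn (Fin.snoc y x⁻¹ : Fin (n + 1) → G) = List.ofFn y ++ [x⁻¹] := by
      rw [List.ofFn_succ']
      simp [List.concat_eq_append]
    refine ⟨n + 1, Fin.snoc T D, Fin.snoc y x⁻¹, ?_, ?_, ?_, ?_⟩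
    · rw [hy']; simp [hprod]
    · intro i
      induction i using Fin.lastCases with
      | last => rwa [Fin.snoc_last]
      | cast i => rw [Fin.snoc_castSucc]; exact hT i
    · intro i
      induction i using Fin.lastCases with
      | last => rw [Fin.snoc_last, Fin.snoc_last]; exact inv_mem hxD
      | cast i => rw [Fin.snoc_castSucc, Fin.snoc_castSucc]; exact hy i
    · intro i
      induction i using Fin.lastCases with
      | last =>
        rw [Fin.snoc_last, hy', List.take_append_of_le_length (by simp)]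
        rw [List.take_of_length_le (by simp), hprod, inv_inv]
        exact hle
      | cast i =>
        rw [Fin.snoc_castSucc, hy', List.take_append_of_le_length (by simp only [List.length_ofFn, Fin.coe_castSucc]; omega)]
        exact hA i

variable [Finite G] {p : ℕ} [Fact p.Prime]

theorem isConjugationFamily_of_extremal (S : Sylow p G) (𝓕 : Set (Subgroup G))
    (h𝓕 : ∀ U ∈ 𝓕, U ≤ (S : Subgroup G))
    (h : ∀ A : Subgroup G, A ≤ S → ∃ g : G, g ⋆ A ≤ S ∧
      IsExtremal p (S : Subgroup G) (g ⋆ A) ∧ g ⋆ A ∈ 𝓕) :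
    Cfsg.IsConjugationFamily 𝓕 (S : Subgroup G) := by
  refine ⟨h𝓕, fun A g _ hA hgA => ?_⟩
  have hle : closure A ≤ (S : Subgroup G) := (closure_le _).2 hA
  have hle' : g⁻¹ ⋆ closure A ≤ (S : Subgroup G) := by
    rw [MonoidHom.map_closure, closure_le]
    rintro _ ⟨a, ha, rfl⟩
    simpa using hgA ⟨a, ha, rfl⟩
  obtain ⟨n, T, x, hprod, hT, hx, hin⟩ := exists_list_of_fuse (fuse_of_family S 𝓕 h hle hle')
  refine ⟨n, T, x, by simpa using hprod, hT, hx, fun h0 a ha => ?_, fun i hi => ?_⟩
  · have := hin ⟨0, h0⟩ (conj_mem_cj (subset_closure ha))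
    simpa using this
  · rintro _ ⟨a, ha, rfl⟩
    have := hin ⟨i.val + 1, hi⟩ (conj_mem_cj (subset_closure ha))
    simpa using this

end CfsgLib.Functor
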