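import Cfsg.Agent.Functor.Fusion

/-!
Conjugacy functors: induced functors, towers and well-placed subgroups.
-/

set_option autoImplicit false

namespace CfsgLib.Functor

open Subgroup

universe u

section Functor

variable {G : Type*} [Group G] {p : ℕ} {W : Subgroup G → Subgroup G}

theorem functor_le (hW : Cfsg.IsConjugacyFunctor p W) {P : Subgroup G} (hP : IsPGroup p ↥P) :
    W P ≤ P := (hW P hP).1

theorem functor_ne_bot (hW : Cfsg.IsConjugacyFunctor p W) {P : Subgroup G} (hP : IsPGroup p ↥P)
    (h : P ≠ ⊥) : W P ≠ ⊥ := (hW P hP).2.1 h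

theorem functor_cj (hW : Cfsg.IsConjugacyFunctor p W) {P : Subgroup G} (hP : IsPGroup p ↥P)
    (g : G) : W (g ⋆ P) = g ⋆ W P := (hW P hP).2.2 g

theorem normalizer_le_functor (hW : Cfsg.IsConjugacyFunctor p W) {P : Subgroup G}
    (hP : IsPGroup p ↥P) : normalizer (P : Set G) ≤ normalizer ((W P : Subgroup G) : Set G) := by
  intro g hg
  rw [mem_normalizer_iff_cj] at hg ⊢
  rw [← functor_cj hW hP, hg]

end Functor

section Induced

variable {G : Type u} [Group G]

theorem induced_map {H : Type u} [Group H] [Finite G] {p : ℕ}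
    {W : ∀ (Q : Type u) [Group Q], Subgroup Q}
    (hW : ∀ (Q R : Type u) [Group Q] [Group R] [Finite Q], IsPGroup p Q →
      ∀ φ : Q ≃* R, (W Q).map φ.toMonoidHom = W R)
    (f : G →* H) (P : Subgroup G) (hP : IsPGroup p ↥P)
    (hinj : ∀ x ∈ P, f x = 1 → x = 1) :
    Cfsg.inducedFunctor W (P.map f) = (Cfsg.inducedFunctor W P).map f := by
  have hbij : Function.Bijective (f.subgroupMap P) := by
    refine ⟨(injective_iff_map_eq_one _).2 fun x hx => Subtype.ext ?_, f.subgroupMap_surjective P⟩
    exact hinj x x.2 (congrArg Subtype.val hx)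
  have h := hW (↥P) ↥(P.map f) hP (MulEquiv.ofBijective _ hbij)
  unfold Cfsg.inducedFunctor
  rw [← h, map_map, map_map]
  congr 1

theorem isConjugacyFunctor_induced [Finite G] {p : ℕ}
    {W : ∀ (Q : Type u) [Group Q], Subgroup Q} (hW : Cfsg.IsCharPFunctor.{u} p W) :
    Cfsg.IsConjugacyFunctor p (Cfsg.inducedFunctor (G := G) W) := by
  refine fun P hP => ⟨map_subtype_le _, fun hne => ?_, fun g => ?_⟩
  · rw [Cfsg.inducedFunctor, Ne, map_eq_bot_iff_of_injective _ P.subtype_injective]
    exact hW.1 _ hP ((nontrivial_iff_ne_bot P).2 hne)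
  · exact induced_map hW.2 _ P hP fun x _ hx => (MulAut.conj g).injective
      (by simpa using hx)

/-- The value of an invariant functor on a finite `p`-group is characteristic. -/
theorem functor_characteristic {p : ℕ} {W : ∀ (Q : Type u) [Group Q], Subgroup Q}
    (hW : ∀ (Q R : Type u) [Group Q] [Group R] [Finite Q], IsPGroup p Q →
      ∀ φ : Q ≃* R, (W Q).map φ.toMonoidHom = W R)
    (Q : Type u) [Group Q] [Finite Q] (hQ : IsPGroup p Q) : (W Q).Characteristic :=
  characteristic_iff_map_eq.2 fun φ => hW Q Q hQ φ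

end Induced

section Tower

variable {G : Type*} [Group G] [Finite G] {p : ℕ} [Fact p.Prime] {W : Subgroup G → Subgroup G}

/-- `N_S` of a term of the tower. -/
theorem tower_succ (S T : Subgroup G) (i : ℕ) :
    Cfsg.functorTower W S T (i + 1) =
      W (S ⊓ normalizer ((Cfsg.functorTower W S T i : Subgroup G) : Set G)) := rfl

theorem tower_le (hW : Cfsg.IsConjugacyFunctor p W) {S T : Subgroup G} (hS : IsPGroup p ↥S)
    (hT : T ≤ S) : ∀ i, Cfsg.functorTower W S T i ≤ S
  | 0 => hT
  | i + 1 => le_trans (functor_le hW (hS.to_le inf_le_left)) inf_le_left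

theorem tower_normalizer_mono (hW : Cfsg.IsConjugacyFunctor p W) {S T : Subgroup G}
    (hS : IsPGroup p ↥S) {i j : ℕ} (hij : i ≤ j) :
    S ⊓ normalizer ((Cfsg.functorTower W S T i : Subgroup G) : Set G) ≤
      S ⊓ normalizer ((Cfsg.functorTower W S T j : Subgroup G) : Set G) := by
  induction j, hij using Nat.le_induction with
  | base => exact le_rfl
  | succ j _ ih =>
    refine le_inf inf_le_left (le_trans ih ?_)
    rw [tower_succ]
    exact le_normalizer.trans (normalizer_le_functor hW (hS.to_le inf_le_left))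

theorem tower_extremal_upto (hW : Cfsg.IsConjugacyFunctor p W) (S : Sylow p G) {T : Subgroup G}
    (hT : T ≤ S) (n : ℕ) :
    ∃ g : G, g ⋆ ((S : Subgroup G) ⊓ normalizer (T : Set G)) ≤ S ∧ ∀ i ≤ n,
      IsExtremal p (S : Subgroup G) (Cfsg.functorTower W S (g ⋆ T) i) := by
  induction n with
  | zero =>
    obtain ⟨g, -, hg, he⟩ := exists_extremal S hT
    exact ⟨g, hg, fun i hi => by obtain rfl := Nat.le_zero.1 hi; exact he⟩
  | succ n ih =>
    obtain ⟨g, hg, hext⟩ := ih
    have hgT : g ⋆ T ≤ S := le_trans (cj_mono g (le_inf hT le_normalizer)) hg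
    obtain ⟨h, -, hh, hhext⟩ := exists_extremal S (tower_le hW S.2 hgT (n + 1))
    set T₁ := g ⋆ T with hT₁
    have hN : ∀ i ≤ n + 1,
        h ⋆ ((S : Subgroup G) ⊓ normalizer ((Cfsg.functorTower W S T₁ i : Subgroup G) : Set G))
          ≤ S := fun i hi => le_trans (cj_mono h (tower_normalizer_mono hW S.2 hi)) hh
    have key : ∀ i ≤ n + 1, Cfsg.functorTower W S (h ⋆ T₁) i = h ⋆ Cfsg.functorTower W S T₁ i ∧
        (i ≤ n → h ⋆ ((S : Subgroup G) ⊓
          normalizer ((Cfsg.functorTower W S T₁ i : Subgroup G) : Set G)) =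
          (S : Subgroup G) ⊓
            normalizer ((Cfsg.functorTower W S (h ⋆ T₁) i : Subgroup G) : Set G)) := by
      intro i
      induction i with
      | zero =>
        intro _
        refine ⟨rfl, fun hn => ?_⟩
        have h1 := ((hext 0 hn).sylowIn S.2).cj h
        rw [cj_normalizer] at h1
        exact h1.eq_of_le (S.2.to_le inf_le_left) inf_le_right
          (le_inf (hN 0 (Nat.zero_le _)) h1.le)
      | succ i ihi =>
        intro hi
        obtain ⟨-, h2⟩ := ihi (by omega)
        have he : Cfsg.functorTower W S (h ⋆ T₁) (i + 1) = h ⋆ Cfsg.functorTower W S T₁ (i + 1) := by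
          rw [tower_succ, tower_succ, ← functor_cj hW (S.2.to_le inf_le_left), h2 (by omega)]
        refine ⟨he, fun hn => ?_⟩
        have h1 := ((hext (i + 1) hn).sylowIn S.2).cj h
        rw [cj_normalizer, ← he] at h1
        exact h1.eq_of_le (S.2.to_le inf_le_left) inf_le_right (le_inf (hN (i + 1) hi) h1.le)
    refine ⟨h * g, ?_, fun i hi => ?_⟩
    · rw [← cj_cj]
      refine le_trans (cj_mono h (le_inf hg ?_)) (hN 0 (Nat.zero_le _))
      show g ⋆ ((S : Subgroup G) ⊓ normalizer (T : Set G)) ≤ normalizer ((g ⋆ T : Subgroup G) : Set G)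
      rw [← cj_normalizer]
      exact cj_mono g inf_le_right
    · rw [← cj_cj]
      rcases Nat.lt_or_ge i (n + 1) with h' | h'
      · obtain ⟨he, h2⟩ := key i hi
        have h1 := ((hext i (by omega)).sylowIn S.2).cj h
        rw [h2 (by omega), cj_normalizer, ← he] at h1
        exact h1.2.2
      · obtain rfl : i = n + 1 := le_antisymm hi h'
        rw [(key _ le_rfl).1]
        exact hhext

theorem exists_wellPlaced (hW : Cfsg.IsConjugacyFunctor p W) (S : Sylow p G) {T : Subgroup G}
    (hT : T ≤ S) :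
    ∃ g : G, g ⋆ T ≤ S ∧ g ⋆ ((S : Subgroup G) ⊓ normalizer (T : Set G)) ≤ S ∧
      Cfsg.IsWellPlaced p W (S : Subgroup G) (g ⋆ T) := by
  obtain ⟨g, hg, hext⟩ := tower_extremal_upto hW S hT (Nat.card G + 1)
  have hgT : g ⋆ T ≤ S := le_trans (cj_mono g (le_inf hT le_normalizer)) hg
  set N : ℕ → Subgroup G := fun i =>
    (S : Subgroup G) ⊓ normalizer ((Cfsg.functorTower W S (g ⋆ T) i : Subgroup G) : Set G)
  obtain ⟨i, hi, heq⟩ : ∃ i ≤ Nat.card G, N i = N (i + 1) := by
    by_contra hcon
    push Not at hcon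
    have hgrow : ∀ i ≤ Nat.card G + 1, i + 1 ≤ Nat.card ↥(N i) := by
      intro i
      induction i with
      | zero => intro _; exact Nat.card_pos
      | succ i ih =>
        intro hi
        have hle : N i ≤ N (i + 1) := tower_normalizer_mono hW S.2 (Nat.le_succ i)
        have := ih (by omega)
        have : Nat.card ↥(N i) < Nat.card ↥(N (i + 1)) := lt_of_not_ge fun hc =>
          hcon i (by omega) (eq_of_le_of_card_le' hle hc)
        omega
    have := hgrow (Nat.card G) (by omega)
    have := Subgroup.card_le_card_group (N (Nat.card G))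
    omega
  refine ⟨g, hgT, hg, hgT, fun j => ?_⟩
  have hstab : ∀ d, N (i + d) = N i := by
    intro d
    induction d with
    | zero => rfl
    | succ d ih =>
      rcases d with _ | d
      · exact heq.symm
      · show N (i + d + 1 + 1) = N i
        have he : Cfsg.functorTower W S (g ⋆ T) (i + (d + 1) + 1) =
            Cfsg.functorTower W S (g ⋆ T) (i + 1) := by
          rw [tower_succ, tower_succ]; exact congrArg W ih
        show (S : Subgroup G) ⊓ normalizer _ = _
        rw [show i + d + 1 + 1 = i + (d + 1) + 1 by omega, he]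
        exact heq.symm
  show IsExtremal p (S : Subgroup G) _
  rcases Nat.lt_or_ge j (i + 2) with h' | h'
  · exact hext j (by omega)
  · have he : Cfsg.functorTower W S (g ⋆ T) j = Cfsg.functorTower W S (g ⋆ T) (i + 1) := by
      obtain ⟨d, rfl⟩ := Nat.exists_eq_add_of_le h'
      rw [show i + 2 + d = (i + (d + 1)) + 1 by omega, tower_succ, tower_succ]
      exact congrArg W (hstab (d + 1))
    rw [he]
    exact hext _ (by omega)

end Tower

end CfsgLib.Functor
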