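import Cfsg.Agent.Functor.Functors
import Mathlib.GroupTheory.Focal

/-!
Control of transfer by sets of conjugacy functors: independence of the Sylow subgroup and the
local-to-global theorem.
-/

set_option autoImplicit false

namespace CfsgLib.Functor

open Subgroup

variable {G : Type*} [Group G]

/-- The subgroup generated by the `T ∩ N_H(W T)'`. -/
def transferGen (𝓦 : Set (Subgroup G → Subgroup G)) (H T : Subgroup G) : Subgroup G :=
  ⨆ W ∈ 𝓦, T ⊓ ⁅H ⊓ normalizer ((W T : Subgroup G) : Set G),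
    H ⊓ normalizer ((W T : Subgroup G) : Set G)⁆

theorem transferGen_le (𝓦 : Set (Subgroup G → Subgroup G)) (H T : Subgroup G) :
    transferGen 𝓦 H T ≤ T ⊓ ⁅H, H⁆ :=
  iSup₂_le fun _ _ => inf_le_inf_left _ (commutator_mono inf_le_left inf_le_left)

theorem le_transferGen {𝓦 : Set (Subgroup G → Subgroup G)} {H T : Subgroup G}
    {W : Subgroup G → Subgroup G} (hW : W ∈ 𝓦) :
    T ⊓ ⁅H ⊓ normalizer ((W T : Subgroup G) : Set G),
      H ⊓ normalizer ((W T : Subgroup G) : Set G)⁆ ≤ transferGen 𝓦 H T := by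
  unfold transferGen
  exact le_iSup₂_of_le W hW le_rfl

/-- Focal subgroup theorem: containment of `S ∩ G'` reduces to fusion. -/
theorem inf_commutator_le [Finite G] {p : ℕ} [Fact p.Prime] (S : Sylow p G) {K : Subgroup G}
    (h : ∀ x ∈ (S : Subgroup G), ∀ g : G, g * x * g⁻¹ ∈ (S : Subgroup G) →
      x⁻¹ * (g * x * g⁻¹) ∈ K) :
    (S : Subgroup G) ⊓ commutator G ≤ K := by
  rw [inf_comm, commutator_inf_eq_focalSubgroup, focalSubgroup_def, closure_le]
  rintro _ ⟨hmem, x, hx, u, rfl⟩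
  have hu : u * x⁻¹ * u⁻¹ ∈ (S : Subgroup G) := by
    have h' := mul_mem (inv_mem hx) hmem
    rw [commutatorElement_def] at h'
    simpa [mul_assoc] using h'
  have := h x⁻¹ (inv_mem hx) u hu
  simpa [commutatorElement_def, mul_assoc] using this

theorem transferGen_cj {p : ℕ} {𝓦 : Set (Subgroup G → Subgroup G)}
    (h𝓦 : ∀ W ∈ 𝓦, Cfsg.IsConjugacyFunctor p W) {H T : Subgroup G} (hT : IsPGroup p ↥T) {n : G}
    (hn : n ∈ normalizer (H : Set G)) :
    n ⋆ transferGen 𝓦 H T = transferGen 𝓦 H (n ⋆ T) := by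
  unfold transferGen
  rw [map_iSup]
  refine iSup_congr fun W => ?_
  rw [map_iSup]
  refine iSup_congr fun hW => ?_
  rw [cj_inf, cj_commutator, cj_inf, mem_normalizer_iff_cj.1 hn, cj_normalizer,
    functor_cj (h𝓦 W hW) hT]

variable [Finite G] {p : ℕ} [Fact p.Prime]

/-- Control of transfer does not depend on the Sylow subgroup. -/
theorem familyTransfer_iff {𝓦 : Set (Subgroup G → Subgroup G)}
    (h𝓦 : ∀ W ∈ 𝓦, Cfsg.IsConjugacyFunctor p W) {H T : Subgroup G} (hT : IsSylowIn p T H) :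
    Cfsg.FamilyControlsTransferIn p 𝓦 H ↔ T ⊓ ⁅H, H⁆ ≤ transferGen 𝓦 H T := by
  constructor
  · rintro ⟨T', h1, h2, h3, h4⟩
    obtain ⟨n, hn, hnT⟩ := hT.exists_cj_eq ⟨h1, h2, h3⟩
    have hn' : n ∈ normalizer (H : Set G) := le_normalizer hn
    have h4' : T' ⊓ ⁅H, H⁆ ≤ transferGen 𝓦 H T' := le_of_eq h4
    have := cj_mono n h4'
    rwa [transferGen_cj h𝓦 h2 hn', cj_inf, cj_commutator, mem_normalizer_iff_cj.1 hn', hnT]
      at this
  · intro h
    exact ⟨T, hT.1, hT.2.1, hT.2.2, le_antisymm h (transferGen_le 𝓦 H T)⟩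

theorem transfer_singleton_iff (W : Subgroup G → Subgroup G) (H : Subgroup G) :
    Cfsg.FamilyControlsTransferIn p {W} H ↔ Cfsg.ControlsTransferIn p W H := by
  unfold Cfsg.FamilyControlsTransferIn Cfsg.ControlsTransferIn
  simp only [iSup_singleton]

/-- Local-to-global control of transfer. -/
theorem transfer_top_of_local (S : Sylow p G) (𝓦 : Set (Subgroup G → Subgroup G))
    (h𝓦 : ∀ W ∈ 𝓦, Cfsg.IsConjugacyFunctor p W) (R : Subgroup G → Prop)
    (choice : ∀ A : Subgroup G, A ≤ S → ∃ h : G, h ⋆ A ≤ S ∧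
      h ⋆ ((S : Subgroup G) ⊓ normalizer (A : Set G)) ≤ S ∧
      IsExtremal p (S : Subgroup G) (h ⋆ A) ∧ R (h ⋆ A))
    (hloc : ∀ V : Subgroup G, V ≤ S → V ≠ ⊥ → IsExtremal p (S : Subgroup G) V → R V →
      (S : Subgroup G) ⊓ normalizer (V : Set G) ⊓
          ⁅normalizer (V : Set G), normalizer (V : Set G)⁆ ≤
        transferGen 𝓦 (normalizer (V : Set G)) ((S : Subgroup G) ⊓ normalizer (V : Set G))) :
    (S : Subgroup G) ⊓ ⁅(⊤ : Subgroup G), ⊤⁆ ≤ transferGen 𝓦 ⊤ (S : Subgroup G) := by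
  set K := transferGen 𝓦 ⊤ (S : Subgroup G) with hK
  set Q : Subgroup G → G → Prop := fun A g => ∀ x ∈ A, x⁻¹ * (g * x * g⁻¹) ∈ K with hQdef
  set P : Subgroup G → Prop := fun V =>
    (S : Subgroup G) ⊓ normalizer (V : Set G) ⊓
      ⁅normalizer (V : Set G), normalizer (V : Set G)⁆ ≤ K with hP
  have key : ∀ (V : Subgroup G), V ≤ (S : Subgroup G) → ∀ x ∈ V, ∀ n ∈ normalizer (V : Set G),
      x⁻¹ * (n * x * n⁻¹) ∈
        (S : Subgroup G) ⊓ normalizer (V : Set G) ⊓
          ⁅normalizer (V : Set G), normalizer (V : Set G)⁆ := by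
    intro V hV x hx n hn
    refine ⟨(le_inf hV le_normalizer) (mul_mem (inv_mem hx) ((mem_normalizer_iff.1 hn x).1 hx)), ?_⟩
    have := commutator_mem_commutator (inv_mem (le_normalizer hx : x ∈ normalizer (V : Set G))) hn
    rwa [commutatorElement_def, inv_inv, mul_assoc, mul_assoc, ← mul_assoc n x] at this
  have hfus : ∀ (A : Subgroup G) (g : G), A ≤ S → g ⋆ A ≤ S → Q A g := by
    refine (fusion_induction S Q P R choice ?_ ?_ ?_ ?_ ?_ ?_ ?_).1
    · exact fun A B g hAB _ _ h x hx => h x (hAB hx)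
    · intro A g h _ _ _ h1 h2 x hx
      have := mul_mem (h1 x hx) (h2 _ (conj_mem_cj hx))
      rwa [show x⁻¹ * (g * x * g⁻¹) * ((g * x * g⁻¹)⁻¹ * (h * (g * x * g⁻¹) * h⁻¹)) =
        x⁻¹ * (h * g * x * (h * g)⁻¹) by group] at this
    · intro A g _ _ h y hy
      obtain ⟨x, hx, rfl⟩ := hy
      have := inv_mem (h x hx)
      simpa [mul_assoc] using this
    · intro g x hx
      rw [mem_bot] at hx
      simp [hx]
    · intro g hg x hx
      by_cases hS : (S : Subgroup G) = ⊥
      · rw [hS, mem_bot] at hx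
        simp [hx]
      obtain ⟨h, hhS, -, hext, hR⟩ := choice _ (le_refl (S : Subgroup G))
      rw [eq_of_le_of_card_le' hhS (card_cj h _).ge] at hext hR
      have h1 := hloc _ le_rfl hS hext hR (key _ le_rfl x hx g hg)
      have hN : (S : Subgroup G) ⊓ normalizer ((S : Subgroup G) : Set G) = (S : Subgroup G) :=
        inf_eq_left.2 le_normalizer
      rw [hN] at h1
      refine (iSup₂_le (fun W hW => le_trans ?_ (le_transferGen hW)) : _ ≤ K) h1
      exact inf_le_inf_left _ (commutator_mono (inf_le_inf_right _ le_top) (inf_le_inf_right _ le_top))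
    · intro U hU _ _ _ hPU n hn x hx
      exact hPU (key U hU x hx n hn)
    · intro V hV hV1 hQ ihP y hy
      obtain ⟨h, hhV, hhN, hext, hR⟩ := choice V hV
      set N := (S : Subgroup G) ⊓ normalizer (V : Set G) with hN
      set N' := (S : Subgroup G) ⊓ normalizer ((h ⋆ V : Subgroup G) : Set G) with hN'
      have hNN' : h ⋆ N ≤ N' := le_inf hhN (by rw [← cj_normalizer]; exact cj_mono h inf_le_right)
      have hgen : transferGen 𝓦 (normalizer ((h ⋆ V : Subgroup G) : Set G)) N' ≤ K := by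
        refine iSup₂_le fun W hW => ?_
        by_cases hS : N' = (S : Subgroup G)
        · rw [hS]
          exact le_trans (inf_le_inf_left _ (commutator_mono (inf_le_inf_right _ le_top)
            (inf_le_inf_right _ le_top))) (le_transferGen hW)
        have hN'p : IsPGroup p ↥N' := S.2.to_le inf_le_left
        have hN'1 : N' ≠ ⊥ := by
          intro he
          have : h ⋆ V ≤ ⊥ := he ▸ le_inf hhV le_normalizer
          exact hV1 (cj_eq_bot_iff.1 (le_bot_iff.1 this))
        have hle : (S : Subgroup G) ⊓ normalizer (N' : Set G) ≤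
            (S : Subgroup G) ⊓ normalizer ((W N' : Subgroup G) : Set G) :=
          inf_le_inf_left _ (normalizer_le_functor (h𝓦 W hW) hN'p)
        have hgt : N' < (S : Subgroup G) ⊓ normalizer (N' : Set G) :=
          lt_inf_normalizer S.2 (lt_of_le_of_ne inf_le_left hS)
        refine le_trans (inf_le_inf (hgt.le.trans hle) (commutator_mono inf_le_right inf_le_right))
          (ihP (W N') (le_trans (functor_le (h𝓦 W hW) hN'p) inf_le_left)
            (functor_ne_bot (h𝓦 W hW) hN'p hN'1) ?_)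
        have h1 : Nat.card ↥N ≤ Nat.card ↥N' := (card_cj h N).symm.trans_le (card_le_of_le hNN')
        have h2 : Nat.card ↥N' < Nat.card ↥((S : Subgroup G) ⊓ normalizer (N' : Set G)) :=
          lt_of_not_ge fun hc => hgt.ne (eq_of_le_of_card_le' hgt.le hc)
        have h3 := card_le_of_le hle
        omega
      have h1 : h * y * h⁻¹ ∈ K := by
        refine hgen (hloc _ hhV (fun he => hV1 (cj_eq_bot_iff.1 he)) hext hR
          ⟨hNN' (conj_mem_cj hy.1), ?_⟩)
        rw [← cj_normalizer, ← cj_commutator]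
        exact conj_mem_cj hy.2
      have h2 := hQ N h inf_le_left hhN le_rfl y hy.1
      simpa [mul_assoc] using mul_mem h1 (inv_mem h2)
  refine le_trans (le_of_eq ?_) (inf_commutator_le S (K := K) fun x hx g hg =>
    hfus (zpowers x) g (by rwa [zpowers_le]) ?_ x (mem_zpowers x))
  · rw [commutator_def]
  · rw [MonoidHom.map_zpowers, zpowers_le]
    exact hg

end CfsgLib.Functor
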