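import Cfsg.Agent.Functor.Control
import Cfsg.Agent.Functor.Transfer

/-!
Strong fusion and transfer controlled by a conjugacy functor together with a central functor:
the local-to-global theorems, with the local hypothesis only at subgroups above the centre of a
Sylow subgroup.
-/

set_option autoImplicit false
set_option linter.unusedSectionVars false

namespace CfsgLib.Functor

open Subgroup

variable {G : Type*} [Group G] {p : ℕ} {W V : Subgroup G → Subgroup G}

/-- The two local subgroups attached to a functor and a central functor. -/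
def pairLocals (W V : Subgroup G → Subgroup G) (H T : Subgroup G) : Set (Subgroup G) :=
  {H ⊓ normalizer ((W T : Subgroup G) : Set G), H ⊓ centralizer ((V T : Subgroup G) : Set G)}

/-- The subgroup generated by the two transfer contributions. -/
def pairGen (W V : Subgroup G → Subgroup G) (H T : Subgroup G) : Subgroup G :=
  (T ⊓ ⁅H ⊓ normalizer ((W T : Subgroup G) : Set G),
      H ⊓ normalizer ((W T : Subgroup G) : Set G)⁆) ⊔
    (T ⊓ ⁅H ⊓ centralizer ((V T : Subgroup G) : Set G),
      H ⊓ centralizer ((V T : Subgroup G) : Set G)⁆)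

/-- Every conjugate of `U` by an element carrying `N_S(U)` into `S` contains the centre of `S`. -/
def IsRigid (S U : Subgroup G) : Prop :=
  ∀ h : G, h ⋆ (S ⊓ normalizer (U : Set G)) ≤ S → S ⊓ centralizer (S : Set G) ≤ h ⋆ U

theorem IsRigid.center_le {S U : Subgroup G} (h : IsRigid S U) :
    S ⊓ centralizer (S : Set G) ≤ U := by
  have h' := h 1 (by rw [cj_one]; exact inf_le_left)
  rwa [cj_one] at h'

theorem IsRigid.cj {S U : Subgroup G} (hU : IsRigid S U) {h : G}
    (hh : h ⋆ (S ⊓ normalizer (U : Set G)) ≤ S) : IsRigid S (h ⋆ U) := by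
  intro k hk
  rw [cj_cj]
  refine hU _ ?_
  rw [← cj_cj]
  exact (cj_mono k (le_inf hh ((cj_mono h inf_le_right).trans_eq (cj_normalizer h U)))).trans hk

theorem pairLocals_cj (hW : Cfsg.IsConjugacyFunctor p W) (hV : Cfsg.IsConjugacyFunctor p V)
    {H T : Subgroup G} (hT : IsPGroup p ↥T) {n : G} (hn : n ∈ normalizer (H : Set G)) :
    (fun N => n ⋆ N) '' pairLocals W V H T = pairLocals W V H (n ⋆ T) := by
  unfold pairLocals
  rw [Set.image_pair, cj_inf, cj_inf, mem_normalizer_iff_cj.1 hn, cj_normalizer, cj_centralizer,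
    functor_cj hW hT, functor_cj hV hT]

theorem pairGen_cj (hW : Cfsg.IsConjugacyFunctor p W) (hV : Cfsg.IsConjugacyFunctor p V)
    {H T : Subgroup G} (hT : IsPGroup p ↥T) {n : G} (hn : n ∈ normalizer (H : Set G)) :
    n ⋆ pairGen W V H T = pairGen W V H (n ⋆ T) := by
  unfold pairGen
  rw [Subgroup.map_sup, cj_inf, cj_inf, cj_commutator, cj_commutator, cj_inf, cj_inf,
    mem_normalizer_iff_cj.1 hn, cj_normalizer, cj_centralizer, functor_cj hW hT, functor_cj hV hT]

variable [Finite G] [Fact p.Prime]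

/-- A normalizer of an extremal subgroup is, up to its centralizer, the normalizer of a rigid
subgroup above it. -/
theorem exists_rigid_over (S : Sylow p G) {U : Subgroup G} (hU : U ≤ S)
    (hext : IsExtremal p (S : Subgroup G) U) :
    ∃ U' : Subgroup G, U ≤ U' ∧ U' ≤ S ∧ IsRigid (S : Subgroup G) U' ∧
      (S : Subgroup G) ⊓ normalizer (U : Set G) ≤
        (S : Subgroup G) ⊓ normalizer (U' : Set G) ∧
      ∀ n ∈ normalizer (U : Set G), ∃ m ∈ normalizer (U' : Set G), m ⋆ U = U ∧
        ∀ x ∈ U, m * x * m⁻¹ = n * x * n⁻¹ := by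
  set T := (S : Subgroup G) ⊓ centralizer (U : Set G) with hT
  have hnorm : ∀ g ∈ normalizer (U : Set G),
      g ⋆ centralizer (U : Set G) = centralizer (U : Set G) := fun g hg => by
    rw [cj_centralizer, mem_normalizer_iff_cj.1 hg]
  have hTsyl : IsSylowIn p T (centralizer (U : Set G)) := by
    have h := (hext.sylowIn S.2).inf_normal (centralizer_le_normalizer (U : Set G))
      (fun g hg => mem_normalizer_iff_cj.2 (hnorm g hg))
    rwa [inf_assoc, inf_eq_right.2 (centralizer_le_normalizer (U : Set G))] at h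
  have hle : (S : Subgroup G) ⊓ normalizer (U : Set G) ≤
      (S : Subgroup G) ⊓ normalizer ((U ⊔ T : Subgroup G) : Set G) := by
    refine le_inf inf_le_left fun g hg => mem_normalizer_iff_cj.2 ?_
    rw [Subgroup.map_sup, mem_normalizer_iff_cj.1 hg.2, hT, cj_inf, cj_eq_self_of_mem hg.1, hnorm g hg.2]
  refine ⟨U ⊔ T, le_sup_left, sup_le hU inf_le_left, fun h hh => ?_, hle, fun n hn => ?_⟩
  · have hN : h ⋆ ((S : Subgroup G) ⊓ normalizer (U : Set G)) ≤ S := (cj_mono h hle).trans hh
    have hUS : h ⋆ U ≤ S := (cj_mono h (le_inf hU le_normalizer)).trans hN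
    have hT' := hTsyl.cj h
    rw [cj_centralizer] at hT'
    have he : h ⋆ T = (S : Subgroup G) ⊓ centralizer ((h ⋆ U : Subgroup G) : Set G) :=
      hT'.eq_of_le (S.2.to_le inf_le_left) inf_le_right (le_inf
        ((cj_mono h (inf_le_inf_left _ (centralizer_le_normalizer (U : Set G)))).trans hN) hT'.le)
    rw [Subgroup.map_sup]
    exact le_trans (le_trans (inf_le_inf_left _ (centralizer_le hUS)) he.ge) le_sup_right
  · obtain ⟨c, hc, hcT⟩ := hTsyl.exists_cj_eq
      (hTsyl.cj_of_mem (g := n) (mem_normalizer_iff_cj.2 (hnorm n hn)))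
    have hcU : c ∈ normalizer (U : Set G) := centralizer_le_normalizer (U : Set G) hc
    have hm : (c * n) ⋆ U = U := by
      rw [← cj_cj, mem_normalizer_iff_cj.1 hn, mem_normalizer_iff_cj.1 hcU]
    refine ⟨c * n, mem_normalizer_iff_cj.2 ?_, hm, fun x hx => ?_⟩
    · rw [Subgroup.map_sup, hm, ← cj_cj, hcT]
    · have h1 := mem_centralizer_iff.1 hc _ ((mem_normalizer_iff.1 hn x).1 hx)
      calc c * n * x * (c * n)⁻¹ = c * (n * x * n⁻¹) * c⁻¹ := by group
        _ = n * x * n⁻¹ := by rw [← h1, mul_inv_cancel_right]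

theorem isExtremal_self (S : Sylow p G) : IsExtremal p (S : Subgroup G) (S : Subgroup G) := by
  unfold IsExtremal
  rw [inf_eq_left.2 le_normalizer]
  exact ((isSylowIn_top S).of_le le_normalizer le_top).2.2

section Local

variable (S : Sylow p G) (hW : Cfsg.IsConjugacyFunctor p W)
  (hWZ : ∀ H : Subgroup G, IsPGroup p ↥H → H ⊓ centralizer (H : Set G) ≤ W H)
  (hVmono : ∀ H K : Subgroup G, IsPGroup p ↥H → IsPGroup p ↥K → H ≠ ⊥ → K ≠ ⊥ →
    H ⊓ centralizer (H : Set G) ≤ K ⊓ centralizer (K : Set G) → V H ≤ V K)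
  (hZ : (S : Subgroup G) ⊓ centralizer ((S : Subgroup G) : Set G) ≠ ⊥)

omit [Fact p.Prime] in
include hW hWZ in
theorem IsRigid.functor {U : Subgroup G} (hU : IsRigid (S : Subgroup G) U) (hUS : U ≤ S) :
    IsRigid (S : Subgroup G) (W ((S : Subgroup G) ⊓ normalizer (U : Set G))) := by
  intro h hh
  set N := (S : Subgroup G) ⊓ normalizer (U : Set G) with hN
  have hNp : IsPGroup p ↥N := S.2.to_le inf_le_left
  have hhN : h ⋆ N ≤ S :=
    (cj_mono h (le_inf inf_le_left (le_normalizer.trans (normalizer_le_functor hW hNp)))).trans hh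
  rw [← functor_cj hW hNp]
  refine le_trans (le_inf ((hU h hhN).trans (cj_mono h (le_inf hUS le_normalizer))) ?_)
    (hWZ _ (isPGroup_cj h hNp))
  exact inf_le_right.trans (centralizer_le hhN)

omit [Fact p.Prime] in
include hVmono hZ in
theorem centralizer_central_le {U : Subgroup G} (hU : IsRigid (S : Subgroup G) U) (hUS : U ≤ S) :
    centralizer ((V ((S : Subgroup G) ⊓ normalizer (U : Set G)) : Subgroup G) : Set G) ≤
      centralizer ((V (S : Subgroup G) : Subgroup G) : Set G) := by
  set N := (S : Subgroup G) ⊓ normalizer (U : Set G) with hN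
  have hZN : (S : Subgroup G) ⊓ centralizer ((S : Subgroup G) : Set G) ≤
      N ⊓ centralizer (N : Set G) :=
    le_inf (hU.center_le.trans (le_inf hUS le_normalizer))
      (inf_le_right.trans (centralizer_le (inf_le_left : N ≤ S)))
  refine centralizer_le (hVmono _ _ S.2 (S.2.to_le inf_le_left) ?_ ?_ hZN)
  · exact fun he => hZ (le_bot_iff.1 (inf_le_left.trans he.le))
  · exact fun he => hZ (le_bot_iff.1 ((hZN.trans inf_le_left).trans he.le))

include hW hWZ hVmono hZ

/-- Local-to-global strong fusion for a functor with a central functor. -/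
theorem pair_controls_top
    (hloc : ∀ U : Subgroup G, U ≤ S → (S : Subgroup G) ⊓ centralizer ((S : Subgroup G) : Set G) ≤ U →
      IsExtremal p (S : Subgroup G) U →
      Controls (pairLocals W V (normalizer (U : Set G)) ((S : Subgroup G) ⊓ normalizer (U : Set G)))
        ((S : Subgroup G) ⊓ normalizer (U : Set G)) (normalizer (U : Set G))) :
    Controls (pairLocals W V ⊤ (S : Subgroup G)) (S : Subgroup G) ⊤ := by
  set 𝓝 := pairLocals W V ⊤ (S : Subgroup G) with h𝓝
  set P : Subgroup G → Prop := fun U₀ => ∀ U : Subgroup G, U ≤ S → IsRigid (S : Subgroup G) U →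
    Nat.card ↥((S : Subgroup G) ⊓ normalizer (U₀ : Set G)) ≤
      Nat.card ↥((S : Subgroup G) ⊓ normalizer (U : Set G)) →
    ∀ (A : Subgroup G) (n : G), n ∈ normalizer (U : Set G) →
      A ≤ (S : Subgroup G) ⊓ normalizer (U : Set G) →
      n ⋆ A ≤ (S : Subgroup G) ⊓ normalizer (U : Set G) → Chain 𝓝 (S : Subgroup G) A n with hP
  intro A g _ hA hg
  refine (fusion_induction S (Chain 𝓝 (S : Subgroup G)) P (fun _ => True)
    (fun A hA => ?_)
    (fun A B g hAB _ _ h => h.mono hAB) (fun A g h _ _ _ h1 h2 => h1.comp h2)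
    (fun A g _ _ h => h.inv) ?_ ?_ ?_ ?_).1 A g hA hg
  · obtain ⟨h, h1, h2, h3⟩ := exists_extremal S hA
    exact ⟨h, h1, h2, h3, trivial⟩
  · exact fun g => ⟨1, .nil _, by simp⟩
  · intro g hg
    have hN : (S : Subgroup G) ⊓ normalizer ((S : Subgroup G) : Set G) = (S : Subgroup G) :=
      inf_eq_left.2 le_normalizer
    refine (hloc _ le_rfl inf_le_left (isExtremal_self S) _ g hg (le_inf le_rfl le_normalizer) ?_).bind ?_
    · rw [mem_normalizer_iff_cj.1 hg, hN]
    rintro B x ⟨hB, hxB, _, hM, hx⟩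
    rw [hN] at hM hB hxB
    rcases hM with rfl | rfl
    · exact Chain.of_mem (Or.inl rfl) ⟨mem_top x, hx.2⟩ hB hxB
    · exact Chain.of_mem (Or.inr rfl) ⟨mem_top x, hx.2⟩ hB hxB
  · intro U hU _ hext _ hPU n hn
    obtain ⟨U', hUU', hU'S, hrig, hle, hfac⟩ := exists_rigid_over S hU hext
    obtain ⟨m, hm, hmU, hag⟩ := hfac n hn
    have hUN := le_inf hU (hUU'.trans le_normalizer)
    exact (hPU U' hU'S hrig (card_le_of_le hle) U m hm hUN (by rw [hmU]; exact hUN)).congr hag
  · intro U₀ _ _ hQ ihP U hUS hrig hcard A n hn hA hnA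
    obtain ⟨h, hhU, hhN, hext⟩ := exists_extremal S hUS
    set N := (S : Subgroup G) ⊓ normalizer (U : Set G) with hN
    set N' := (S : Subgroup G) ⊓ normalizer ((h ⋆ U : Subgroup G) : Set G) with hN'
    have hrig' : IsRigid (S : Subgroup G) (h ⋆ U) := hrig.cj hhN
    have hNN' : h ⋆ N ≤ N' := le_inf hhN (by rw [← cj_normalizer]; exact cj_mono h inf_le_right)
    have hh : Chain 𝓝 (S : Subgroup G) N h := hQ N h inf_le_left hhN hcard
    have hn' : h * n * h⁻¹ ∈ normalizer ((h ⋆ U : Subgroup G) : Set G) := by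
      rw [← cj_normalizer]; exact conj_mem_cj hn
    have hA' : h ⋆ A ≤ N' := (cj_mono h hA).trans hNN'
    have hnA' : (h * n * h⁻¹) ⋆ (h ⋆ A) ≤ N' := by
      rw [cj_cj, inv_mul_cancel_right, ← cj_cj]
      exact (cj_mono h hnA).trans hNN'
    have hmid : Chain 𝓝 (S : Subgroup G) (h ⋆ A) (h * n * h⁻¹) := by
      refine (hloc _ hhU hrig'.center_le hext _ _ hn' hA' hnA').bind ?_
      rintro B x ⟨hB, hxB, _, hM, hx⟩
      rw [← hN'] at hM hB hxB
      rcases hM with rfl | rfl
      swap
      · exact Chain.of_mem (Or.inr rfl)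
          ⟨mem_top x, centralizer_central_le S hVmono hZ hrig' hhU hx.2⟩
          (hB.trans inf_le_left) (hxB.trans inf_le_left)
      by_cases hS : N' = (S : Subgroup G)
      · rw [hS] at hx hB hxB
        exact Chain.of_mem (Or.inl rfl) ⟨mem_top x, hx.2⟩ hB hxB
      have hN'p : IsPGroup p ↥N' := S.2.to_le inf_le_left
      have hN'1 : N' ≠ ⊥ := fun he => hZ (le_bot_iff.1
        ((hrig'.center_le.trans (le_inf hhU le_normalizer)).trans he.le))
      have hle : (S : Subgroup G) ⊓ normalizer (N' : Set G) ≤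
          (S : Subgroup G) ⊓ normalizer ((W N' : Subgroup G) : Set G) :=
        inf_le_inf_left _ (normalizer_le_functor hW hN'p)
      have hgt : N' < (S : Subgroup G) ⊓ normalizer (N' : Set G) :=
        lt_inf_normalizer S.2 (lt_of_le_of_ne inf_le_left hS)
      have hWS : W N' ≤ (S : Subgroup G) := le_trans (functor_le hW hN'p) inf_le_left
      refine ihP (W N') hWS (functor_ne_bot hW hN'p hN'1) ?_ (W N') hWS
        (hrig'.functor S hW hWZ hhU) le_rfl B x hx.2
        (hB.trans (hgt.le.trans hle)) (hxB.trans (hgt.le.trans hle))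
      have h1 : Nat.card ↥N ≤ Nat.card ↥N' := (card_cj h N).symm.trans_le (card_le_of_le hNN')
      have h2 : Nat.card ↥N' < Nat.card ↥((S : Subgroup G) ⊓ normalizer (N' : Set G)) :=
        lt_of_not_ge fun hc => hgt.ne (eq_of_le_of_card_le' hgt.le hc)
      have h3 := card_le_of_le hle
      omega
    have h1 : Chain 𝓝 (S : Subgroup G) A (h * n) := by
      simpa using (hh.mono hA).comp hmid
    have h2 : Chain 𝓝 (S : Subgroup G) ((h * n) ⋆ A) h⁻¹ := by
      have := (hh.mono hnA).inv
      rwa [cj_cj] at this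
    simpa using h1.comp h2

end Local

/-- Control in a subgroup by the pair does not depend on the Sylow subgroup. -/
theorem Controls.change_pair (hW : Cfsg.IsConjugacyFunctor p W) (hV : Cfsg.IsConjugacyFunctor p V)
    {H T T' : Subgroup G} (hT : IsSylowIn p T H) (hT' : IsSylowIn p T' H)
    (h : Controls (pairLocals W V H T) T H) : Controls (pairLocals W V H T') T' H := by
  obtain ⟨n, hn, hnT⟩ := hT'.exists_cj_eq hT
  intro A g hg hA hgA
  have h1 : n⁻¹ ⋆ A ≤ T := by rw [cj_le_iff', inv_inv, hnT]; exact hA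
  have h2 : (n⁻¹ * g * n) ⋆ (n⁻¹ ⋆ A) ≤ T := by
    rw [cj_cj, mul_inv_cancel_right, ← cj_cj, cj_le_iff', inv_inv, hnT]
    exact hgA
  have := (h _ _ (mul_mem (mul_mem (inv_mem hn) hg) hn) h1 h2).cj n
  rw [pairLocals_cj hW hV hT.isPGroup (le_normalizer hn), hnT, cj_cj_inv] at this
  convert this using 1
  group

omit [Finite G] [Fact p.Prime] in
/-- Factorizations in the right conjugation convention give chains. -/
theorem pair_controls_of_factor {H Q : Subgroup G}
    (h : ∀ (X : Set G) (a : G), X ⊆ Q → a ∈ H → (fun x => a⁻¹ * x * a) '' X ⊆ Q →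
      ∃ c ∈ H ⊓ centralizer X, ∃ (n : ℕ) (b : Fin n → G),
        (∀ i, b i ∈ H ⊓ normalizer ((W Q : Subgroup G) : Set G) ∨
          b i ∈ H ⊓ centralizer ((V Q : Subgroup G) : Set G)) ∧
        a = c * (List.ofFn b).prod ∧
        ∀ k : ℕ, k ≤ n → (fun x => (((List.ofFn b).take k).prod)⁻¹ * x *
          ((List.ofFn b).take k).prod) '' ((fun x => c⁻¹ * x * c) '' X) ⊆ Q) :
    Controls (pairLocals W V H Q) Q H := by
  intro A g hg hA hgA
  obtain ⟨c, hc, n, b, hb, hab, hin⟩ := h (A : Set G) g⁻¹ hA (inv_mem hg) (by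
    rintro _ ⟨x, hx, rfl⟩
    simpa using hgA (conj_mem_cj hx))
  have hcA : ∀ x ∈ A, c⁻¹ * x * c = x := fun x hx => by
    rw [mul_assoc, mem_centralizer_iff.1 hc.2 x hx, inv_mul_cancel_left]
  have hk : ∀ k, k ≤ n → (((List.ofFn b).take k).prod)⁻¹ ⋆ A ≤ Q := by
    intro k hk
    rw [cj_le_iff]
    intro x hx
    rw [inv_inv]
    exact hin k hk ⟨x, ⟨x, hx, hcA x hx⟩, rfl⟩
  have hch : ∀ k, k ≤ n → Chain (pairLocals W V H Q) Q A (((List.ofFn b).take k).prod)⁻¹ := by
    intro k
    induction k with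
    | zero => intro _; simpa using Chain.one _ _ _
    | succ k ih =>
      intro hkn
      have hlt : k < (List.ofFn b).length := by simp; omega
      have he := List.prod_take_succ (List.ofFn b) k hlt
      rw [List.getElem_ofFn] at he
      have hstep : Chain (pairLocals W V H Q) Q ((((List.ofFn b).take k).prod)⁻¹ ⋆ A)
          (b ⟨k, by omega⟩)⁻¹ := by
        have h1 := hk k (by omega)
        have h2 : (b ⟨k, by omega⟩)⁻¹ ⋆ ((((List.ofFn b).take k).prod)⁻¹ ⋆ A) ≤ Q := by
          rw [cj_cj, ← mul_inv_rev]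
          exact le_of_eq_of_le (by rw [he]) (hk (k + 1) hkn)
        rcases hb ⟨k, by omega⟩ with hm | hm
        · exact Chain.of_mem (Or.inl rfl) (inv_mem hm) h1 h2
        · exact Chain.of_mem (Or.inr rfl) (inv_mem hm) h1 h2
      rw [he, mul_inv_rev]
      exact (ih (by omega)).comp hstep
  have hall := hch n le_rfl
  rw [List.take_of_length_le (by simp)] at hall
  refine hall.congr fun x hx => ?_
  rw [← inv_inv g, hab]
  calc (List.ofFn b).prod⁻¹ * x * (List.ofFn b).prod⁻¹⁻¹
      = (List.ofFn b).prod⁻¹ * (c⁻¹ * x * c) * (List.ofFn b).prod := by rw [hcA x hx, inv_inv]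
    _ = _ := by group

omit [Finite G] [Fact p.Prime] in
/-- Chains give factorizations in the right conjugation convention. -/
theorem factor_of_chain {𝓐 𝓑 Q : Subgroup G} {X : Set G} {a : G}
    (hX : X ⊆ Q) (h : Chain {𝓐, 𝓑} Q (closure X) a⁻¹) :
    ∃ c ∈ centralizer X, ∃ (n : ℕ) (b : Fin n → G), (∀ i, b i ∈ 𝓐 ∨ b i ∈ 𝓑) ∧
      a = c * (List.ofFn b).prod ∧
      ∀ k : ℕ, k ≤ n → (fun x => (((List.ofFn b).take k).prod)⁻¹ * x *
        ((List.ofFn b).take k).prod) '' ((fun x => c⁻¹ * x * c) '' X) ⊆ Q := by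
  have hA : closure X ≤ Q := (closure_le _).2 hX
  obtain ⟨w, hw, hag⟩ := h
  suffices ∃ (n : ℕ) (b : Fin n → G), (∀ i, b i ∈ 𝓐 ∨ b i ∈ 𝓑) ∧
      (List.ofFn b).prod = w⁻¹ ∧
      ∀ k : ℕ, k ≤ n → (((List.ofFn b).take k).prod)⁻¹ ⋆ closure X ≤ Q by
    obtain ⟨n, b, hb, hp, hk⟩ := this
    have hc : ∀ x ∈ X, x * (a * w) = a * w * x := fun x hx => by
      have h1 := congrArg (fun z => a * z * w) (hag x (subset_closure hx))
      simpa [mul_assoc] using h1.symm
    refine ⟨a * w, mem_centralizer_iff.2 hc, n, b, hb, by rw [hp, mul_inv_cancel_right], ?_⟩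
    rintro k hkn _ ⟨_, ⟨x, hx, rfl⟩, rfl⟩
    have he : (a * w)⁻¹ * x * (a * w) = x := by rw [mul_assoc, hc x hx, inv_mul_cancel_left]
    simpa only [he, inv_inv, SetLike.mem_coe] using
      hk k hkn (conj_mem_cj (g := (((List.ofFn b).take k).prod)⁻¹) (subset_closure hx))
  clear hag
  induction hw with
  | nil =>
    exact ⟨0, Fin.elim0, fun i => i.elim0, by simp, fun k _ => by
      rw [List.ofFn_zero, List.take_nil, List.prod_nil, inv_one, cj_one]; exact hA⟩
  | @cons w x _ hx ih =>
    obtain ⟨-, hxB, N, hN, hxN⟩ := hx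
    obtain ⟨n, b, hb, hp, hk⟩ := ih
    have hy : List.ofFn (Fin.snoc b x⁻¹ : Fin (n + 1) → G) = List.ofFn b ++ [x⁻¹] := by
      rw [List.ofFn_succ']
      simp [List.concat_eq_append]
    refine ⟨n + 1, Fin.snoc b x⁻¹, fun i => ?_, by rw [hy]; simp [hp], fun k hkn => ?_⟩
    · induction i using Fin.lastCases with
      | last =>
        rw [Fin.snoc_last]
        rcases hN with rfl | rfl
        · exact Or.inl (inv_mem hxN)
        · exact Or.inr (inv_mem hxN)
      | cast i => rw [Fin.snoc_castSucc]; exact hb i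
    · rw [hy]
      rcases Nat.lt_or_ge k (n + 1) with hk' | hk'
      · rw [List.take_append_of_le_length (by simp; omega)]
        exact hk k (by omega)
      · rw [List.take_of_length_le (by simp; omega), List.prod_append, List.prod_singleton, hp,
          ← mul_inv_rev, inv_inv, ← cj_cj]
        exact hxB

section Transfer

variable (S : Sylow p G) (hW : Cfsg.IsConjugacyFunctor p W)
  (hWZ : ∀ H : Subgroup G, IsPGroup p ↥H → H ⊓ centralizer (H : Set G) ≤ W H)
  (hVmono : ∀ H K : Subgroup G, IsPGroup p ↥H → IsPGroup p ↥K → H ≠ ⊥ → K ≠ ⊥ →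
    H ⊓ centralizer (H : Set G) ≤ K ⊓ centralizer (K : Set G) → V H ≤ V K)
  (hZ : (S : Subgroup G) ⊓ centralizer ((S : Subgroup G) : Set G) ≠ ⊥)

include hW hWZ hVmono hZ

/-- Local-to-global transfer for a functor with a central functor. -/
theorem pair_transfer_top
    (hloc : ∀ U : Subgroup G, U ≤ S → (S : Subgroup G) ⊓ centralizer ((S : Subgroup G) : Set G) ≤ U →
      IsExtremal p (S : Subgroup G) U →
      (S : Subgroup G) ⊓ normalizer (U : Set G) ⊓
          ⁅normalizer (U : Set G), normalizer (U : Set G)⁆ ≤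
        pairGen W V (normalizer (U : Set G)) ((S : Subgroup G) ⊓ normalizer (U : Set G))) :
    (S : Subgroup G) ⊓ commutator G ≤ pairGen W V ⊤ (S : Subgroup G) := by
  set K := pairGen W V ⊤ (S : Subgroup G) with hK
  set Q : Subgroup G → G → Prop := fun A g => ∀ x ∈ A, x⁻¹ * (g * x * g⁻¹) ∈ K with hQdef
  set P : Subgroup G → Prop := fun U₀ => ∀ U : Subgroup G, U ≤ S → IsRigid (S : Subgroup G) U →
    Nat.card ↥((S : Subgroup G) ⊓ normalizer (U₀ : Set G)) ≤
      Nat.card ↥((S : Subgroup G) ⊓ normalizer (U : Set G)) →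
    (S : Subgroup G) ⊓ normalizer (U : Set G) ⊓
      ⁅normalizer (U : Set G), normalizer (U : Set G)⁆ ≤ K with hP
  have key : ∀ (U : Subgroup G), U ≤ (S : Subgroup G) → ∀ x ∈ U, ∀ n ∈ normalizer (U : Set G),
      n * x * n⁻¹ ∈ (S : Subgroup G) → x⁻¹ * (n * x * n⁻¹) ∈
        (S : Subgroup G) ⊓ normalizer (U : Set G) ⊓
          ⁅normalizer (U : Set G), normalizer (U : Set G)⁆ := by
    intro U hU x hx n hn hnx
    refine ⟨⟨mul_mem (Subgroup.inv_mem (S : Subgroup G) (hU hx)) hnx,
      le_normalizer (mul_mem (inv_mem hx) ((mem_normalizer_iff.1 hn x).1 hx))⟩, ?_⟩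
    have := commutator_mem_commutator (inv_mem (le_normalizer hx : x ∈ normalizer (U : Set G))) hn
    rwa [commutatorElement_def, inv_inv, mul_assoc, mul_assoc, ← mul_assoc n x] at this
  have hfus : ∀ (A : Subgroup G) (g : G), A ≤ S → g ⋆ A ≤ S → Q A g := by
    refine (fusion_induction S Q P (fun _ => True) ?_ ?_ ?_ ?_ ?_ ?_ ?_ ?_).1
    · intro A hA
      obtain ⟨h, h1, h2, h3⟩ := exists_extremal S hA
      exact ⟨h, h1, h2, h3, trivial⟩
    · exact fun A B g hAB _ _ h x hx => h x (hAB hx)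
    · intro A g h _ _ _ h1 h2 x hx
      have := mul_mem (h1 x hx) (h2 _ (conj_mem_cj hx))
      rwa [show x⁻¹ * (g * x * g⁻¹) * ((g * x * g⁻¹)⁻¹ * (h * (g * x * g⁻¹) * h⁻¹)) =
        x⁻¹ * (h * g * x * (h * g)⁻¹) by group] at this
    · intro A g _ _ h y hy
      obtain ⟨x, hx, rfl⟩ := hy
      have := inv_mem (h x hx)
      simpa [mul_assoc] using this
    · intro g x hx
      rw [mem_bot] at hx
      simp [hx]
    · intro g hg x hx
      have hN : (S : Subgroup G) ⊓ normalizer ((S : Subgroup G) : Set G) = (S : Subgroup G) :=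
        inf_eq_left.2 le_normalizer
      have h1 := hloc _ le_rfl inf_le_left (isExtremal_self S)
        (key _ le_rfl x hx g hg ((mem_normalizer_iff.1 hg x).1 hx))
      rw [hN] at h1
      refine (sup_le ?_ ?_ : _ ≤ K) h1
      · exact le_sup_of_le_left (inf_le_inf_left _
          (commutator_mono (inf_le_inf_right _ le_top) (inf_le_inf_right _ le_top)))
      · exact le_sup_of_le_right (inf_le_inf_left _
          (commutator_mono (inf_le_inf_right _ le_top) (inf_le_inf_right _ le_top)))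
    · intro U hU _ hext _ hPU n hn x hx
      obtain ⟨U', hUU', hU'S, hrig, hle, hfac⟩ := exists_rigid_over S hU hext
      obtain ⟨m, hm, -, hag⟩ := hfac n hn
      rw [← hag x hx]
      exact hPU U' hU'S hrig (card_le_of_le hle)
        (key U' hU'S x (hUU' hx) m hm (hU'S ((mem_normalizer_iff.1 hm x).1 (hUU' hx))))
    · intro U₀ _ _ hQ ihP U hUS hrig hcard y hy
      obtain ⟨h, hhU, hhN, hext⟩ := exists_extremal S hUS
      set N := (S : Subgroup G) ⊓ normalizer (U : Set G) with hN
      set N' := (S : Subgroup G) ⊓ normalizer ((h ⋆ U : Subgroup G) : Set G) with hN'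
      have hrig' : IsRigid (S : Subgroup G) (h ⋆ U) := hrig.cj hhN
      have hNN' : h ⋆ N ≤ N' := le_inf hhN (by rw [← cj_normalizer]; exact cj_mono h inf_le_right)
      have hgen : pairGen W V (normalizer ((h ⋆ U : Subgroup G) : Set G)) N' ≤ K := by
        refine sup_le ?_ (le_sup_of_le_right (inf_le_inf inf_le_left
          (commutator_mono (inf_le_inf le_top (centralizer_central_le S hVmono hZ hrig' hhU))
            (inf_le_inf le_top (centralizer_central_le S hVmono hZ hrig' hhU)))))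
        by_cases hS : N' = (S : Subgroup G)
        · rw [hS]
          exact le_sup_of_le_left (inf_le_inf_left _
            (commutator_mono (inf_le_inf_right _ le_top) (inf_le_inf_right _ le_top)))
        have hN'p : IsPGroup p ↥N' := S.2.to_le inf_le_left
        have hN'1 : N' ≠ ⊥ := fun he => hZ (le_bot_iff.1
          ((hrig'.center_le.trans (le_inf hhU le_normalizer)).trans he.le))
        have hle : (S : Subgroup G) ⊓ normalizer (N' : Set G) ≤
            (S : Subgroup G) ⊓ normalizer ((W N' : Subgroup G) : Set G) :=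
          inf_le_inf_left _ (normalizer_le_functor hW hN'p)
        have hgt : N' < (S : Subgroup G) ⊓ normalizer (N' : Set G) :=
          lt_inf_normalizer S.2 (lt_of_le_of_ne inf_le_left hS)
        have hWS : W N' ≤ (S : Subgroup G) := le_trans (functor_le hW hN'p) inf_le_left
        refine le_trans (inf_le_inf (hgt.le.trans hle) (commutator_mono inf_le_right inf_le_right))
          (ihP (W N') hWS (functor_ne_bot hW hN'p hN'1) ?_ (W N') hWS
            (hrig'.functor S hW hWZ hhU) le_rfl)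
        have h1 : Nat.card ↥N ≤ Nat.card ↥N' := (card_cj h N).symm.trans_le (card_le_of_le hNN')
        have h2 : Nat.card ↥N' < Nat.card ↥((S : Subgroup G) ⊓ normalizer (N' : Set G)) :=
          lt_of_not_ge fun hc => hgt.ne (eq_of_le_of_card_le' hgt.le hc)
        have h3 := card_le_of_le hle
        omega
      have h1 : h * y * h⁻¹ ∈ K := by
        refine hgen (hloc _ hhU hrig'.center_le hext ⟨hNN' (conj_mem_cj hy.1), ?_⟩)
        rw [← cj_normalizer, ← cj_commutator]
        exact conj_mem_cj hy.2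
      have h2 := hQ N h inf_le_left hhN hcard y hy.1
      simpa [mul_assoc] using mul_mem h1 (inv_mem h2)
  refine inf_commutator_le S (K := K) fun x hx g hg =>
    hfus (zpowers x) g (by rwa [zpowers_le]) ?_ x (mem_zpowers x)
  rw [MonoidHom.map_zpowers, zpowers_le]
  exact hg

end Transfer

omit [Finite G] in
/-- Factorizations of transfer at one Sylow subgroup of `H` give the containment at every one. -/
theorem pair_transfer_change (hW : Cfsg.IsConjugacyFunctor p W)
    (hV : Cfsg.IsConjugacyFunctor p V) {H T T' : Subgroup G} (hT : IsPGroup p ↥T) {n : G}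
    (hn : n ∈ H) (hnT : n ⋆ T = T') (h : T ⊓ ⁅H, H⁆ ≤ pairGen W V H T) :
    T' ⊓ ⁅H, H⁆ ≤ pairGen W V H T' := by
  have := cj_mono n h
  rwa [pairGen_cj hW hV hT (le_normalizer hn), cj_inf, cj_commutator, cj_eq_self_of_mem hn, hnT]
    at this

/-- Membership in `pairGen` as a product. -/
theorem mem_pairGen_iff (hW : Cfsg.IsConjugacyFunctor p W) {H T : Subgroup G}
    (hT : IsPGroup p ↥T) (hTH : T ≤ H) (x : G) :
    x ∈ pairGen W V H T ↔ ∃ a ∈ T ⊓ ⁅H ⊓ normalizer ((W T : Subgroup G) : Set G),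
        H ⊓ normalizer ((W T : Subgroup G) : Set G)⁆,
      ∃ b ∈ T ⊓ ⁅H ⊓ centralizer ((V T : Subgroup G) : Set G),
        H ⊓ centralizer ((V T : Subgroup G) : Set G)⁆, x = a * b := by
  constructor
  · intro hx
    have hN : ∀ b ∈ T, b ∈ H ⊓ normalizer ((W T : Subgroup G) : Set G) := fun b hb =>
      ⟨hTH hb, normalizer_le_functor hW hT (le_normalizer hb)⟩
    unfold pairGen at hx
    rw [sup_comm, ← SetLike.mem_coe, coe_mul_of_left_le_normalizer_right] at hx
    · obtain ⟨b, hb, a, ha, rfl⟩ := hx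
      simp only [SetLike.mem_coe] at hb ha
      obtain ⟨hbT, -⟩ := mem_inf.1 hb
      refine ⟨b * a * b⁻¹, ?_, b, hb, (inv_mul_cancel_right _ _).symm⟩
      have h := conj_mem_cj (g := b) ha
      rwa [cj_inf, cj_eq_self_of_mem hbT, cj_commutator, cj_eq_self_of_mem (hN b hbT)] at h
    · intro b hb
      obtain ⟨hbT, -⟩ := mem_inf.1 hb
      refine mem_normalizer_iff_cj.2 ?_
      rw [cj_inf, cj_eq_self_of_mem hbT, cj_commutator, cj_eq_self_of_mem (hN b hbT)]
  · rintro ⟨a, ha, b, hb, rfl⟩
    exact mul_mem (mem_sup_left ha) (mem_sup_right hb)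

/-- The centre of a nontrivial Sylow subgroup is nontrivial. -/
theorem center_sylow_ne_bot (S : Sylow p G) (hdiv : p ∣ Nat.card G) :
    (S : Subgroup G) ⊓ centralizer ((S : Subgroup G) : Set G) ≠ ⊥ := by
  have : Nontrivial (S : Subgroup G) :=
    (nontrivial_iff_ne_bot _).2 (S.ne_bot_of_dvd_card hdiv)
  obtain ⟨z, hz, hz1⟩ := SetLike.exists_of_lt (bot_lt_iff_ne_bot.2
    ((nontrivial_iff_ne_bot _).1 S.2.center_nontrivial))
  intro he
  refine hz1 (mem_bot.2 (Subtype.ext ?_))
  have : (z : G) ∈ (S : Subgroup G) ⊓ centralizer ((S : Subgroup G) : Set G) :=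
    ⟨z.2, mem_centralizer_iff.2 fun y hy => congrArg Subtype.val (mem_center_iff.1 hz ⟨y, hy⟩)⟩
  rw [he, mem_bot] at this
  exact this

end CfsgLib.Functor
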